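import Groth.Agent.ArSingLib.Rel

/-! Germs of order at most two, and translated polynomials. -/

universe u

namespace ArSingLib

open MvPowerSeries Finsupp MorseLib

variable {k : Type u} [Field k]

lemma coeff_mon (i j i' j' : ℕ) :
    coeff (ex i j) ((X 0 : MvPowerSeries (Fin 2) k) ^ i' * X 1 ^ j') = if i = i' ∧ j = j' then 1 else 0 := by
  classical
  rw [X_pow_eq, X_pow_eq, monomial_mul_monomial, mul_one, coeff_monomial]
  refine if_congr ⟨fun h => ⟨?_, ?_⟩, ?_⟩ rfl rfl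
  · simpa [ex] using DFunLike.congr_fun h 0
  · simpa [ex] using DFunLike.congr_fun h 1
  · rintro ⟨rfl, rfl⟩; rfl

lemma degree_eq (e : Fin 2 →₀ ℕ) : e.degree = e 0 + e 1 := by
  conv_lhs => rw [← ex_eta e]
  exact degree_ex _ _

lemma low_two_iff {f : MvPowerSeries (Fin 2) k} :
    f ∈ Low (n := 2) (⊥ : Ideal k) 2 ↔
      constantCoeff f = 0 ∧ coeff (single 0 1) f = 0 ∧ coeff (single 1 1) f = 0 := by
  refine ⟨fun h => ⟨?_, mem_Low_bot.1 h _ (by simp), mem_Low_bot.1 h _ (by simp)⟩,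
    fun ⟨h0, h1, h2⟩ => mem_Low_bot.2 fun e he => ?_⟩
  · rw [← coeff_zero_eq_constantCoeff_apply]; exact mem_Low_bot.1 h _ (by simp)
  rw [degree_eq] at he
  rw [← ex_eta e]
  obtain ⟨i, hi⟩ : ∃ i, e 0 = i := ⟨_, rfl⟩
  obtain ⟨j, hj⟩ : ∃ j, e 1 = j := ⟨_, rfl⟩
  rw [hi, hj] at he ⊢
  rcases (show (i = 0 ∧ j = 0) ∨ (i = 1 ∧ j = 0) ∨ (i = 0 ∧ j = 1) by omega) with ⟨rfl, rfl⟩ | ⟨rfl, rfl⟩ | ⟨rfl, rfl⟩
  · simpa [ex] using h0
  · simpa [ex] using h1
  · simpa [ex] using h2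

lemma low_three_iff {f : MvPowerSeries (Fin 2) k} :
    f ∈ Low (n := 2) (⊥ : Ideal k) 3 ↔ f ∈ Low (n := 2) (⊥ : Ideal k) 2 ∧
      coeff (ex 2 0) f = 0 ∧ coeff (ex 1 1) f = 0 ∧ coeff (ex 0 2) f = 0 := by
  refine ⟨fun h => ⟨Low_anti (by omega) h, mem_Low_bot.1 h _ ?_, mem_Low_bot.1 h _ ?_, mem_Low_bot.1 h _ ?_⟩,
    fun ⟨h2, ha, hb, hc⟩ => mem_Low_bot.2 fun e he => ?_⟩
  · rw [degree_ex]; omega
  · rw [degree_ex]; omega
  · rw [degree_ex]; omega
  by_cases hd : e.degree < 2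
  · exact mem_Low_bot.1 h2 e hd
  rw [degree_eq] at he hd
  rw [← ex_eta e]
  obtain ⟨i, hi⟩ : ∃ i, e 0 = i := ⟨_, rfl⟩
  obtain ⟨j, hj⟩ : ∃ j, e 1 = j := ⟨_, rfl⟩
  rw [hi, hj] at he hd ⊢
  rcases (show (i = 2 ∧ j = 0) ∨ (i = 1 ∧ j = 1) ∨ (i = 0 ∧ j = 2) by omega) with ⟨rfl, rfl⟩ | ⟨rfl, rfl⟩ | ⟨rfl, rfl⟩
  exacts [ha, hb, hc]

lemma X1sq_low : (X 1 ^ 2 : MvPowerSeries (Fin 2) k) ∈ Low (n := 2) (⊥ : Ideal k) 2 := by
  rw [pow_two]; exact mul_mem_Low (a := 1) (b := 1) (X_mem_Low 1) (X_mem_Low 1)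

lemma pair_mem {a b : MvPowerSeries (Fin 2) k} (ha : constantCoeff a = 0) (hb : constantCoeff b = 0) (i : Fin 2) :
    (![a, b] : Fin 2 → MvPowerSeries (Fin 2) k) i ∈ Low (n := 2) (⊥ : Ideal k) 1 := by
  fin_cases i
  · exact mem_low_one.2 ha
  · exact mem_low_one.2 hb

lemma jac_pair (a b : MvPowerSeries (Fin 2) k) :
    (jac (![a, b] : Fin 2 → MvPowerSeries (Fin 2) k)).det =
      coeff (single 0 1) a * coeff (single 1 1) b - coeff (single 1 1) a * coeff (single 0 1) b := by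
  rw [Matrix.det_fin_two]; rfl

/-- A change of coordinates by a pair of series. -/
theorem rel_sub {a b : MvPowerSeries (Fin 2) k} (ha : constantCoeff a = 0) (hb : constantCoeff b = 0)
    (hdet : coeff (single 0 1) a * coeff (single 1 1) b - coeff (single 1 1) a * coeff (single 0 1) b ≠ 0)
    (F : MvPowerSeries (Fin 2) k) : Rel F (Ev ![a, b] (pair_mem ha hb) F) := by
  obtain ⟨e, he⟩ := exists_equiv ![a, b] (pair_mem ha hb) (by rwa [jac_pair])
  exact ⟨e, by rw [he]⟩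

/-- A smooth germ is a line. -/
theorem rel_smooth {F : MvPowerSeries (Fin 2) k} (h0 : constantCoeff F = 0)
    (hF : F ∉ Low (n := 2) (⊥ : Ideal k) 2) : Rel (X 0) F := by
  classical
  rw [low_two_iff] at hF
  by_cases hx : coeff (single 0 1) F = 0
  · have hy : coeff (single 1 1) F ≠ 0 := fun hy => hF ⟨h0, hx, hy⟩
    have := rel_sub (a := F) (b := X 0) h0 (constantCoeff_X 0) (by simpa [coeff_X, hx, Finsupp.single_left_inj] using hy) (X 0)
    rwa [Ev_X, Matrix.cons_val_zero] at this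
  · have := rel_sub (a := F) (b := X 1) h0 (constantCoeff_X 1) (by simpa [coeff_X, Finsupp.single_left_inj] using hx) (X 0)
    rwa [Ev_X, Matrix.cons_val_zero] at this

/-- Making the coefficient of `y²` nonzero. -/
theorem exists_rel_y2 {F : MvPowerSeries (Fin 2) k} (hF2 : F ∈ Low (n := 2) (⊥ : Ideal k) 2)
    (hF3 : F ∉ Low (n := 2) (⊥ : Ideal k) 3) : ∃ F', Rel F F' ∧ coeff (single 1 2) F' ≠ 0 := by
  classical
  have hex : single (1 : Fin 2) 2 = ex 0 2 := by simp [ex]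
  by_cases h02 : coeff (ex 0 2) F = 0
  swap
  · exact ⟨F, Rel.of_eq rfl, hex ▸ h02⟩
  set q20 := coeff (ex 2 0) F with hq20
  set q11 := coeff (ex 1 1) F with hq11
  have hrest : F - (C q20 * (X 0 ^ 2 * X 1 ^ 0) + C q11 * (X 0 ^ 1 * X 1 ^ 1)) ∈ Low (n := 2) (⊥ : Ideal k) 3 := by
    rw [low_three_iff]
    refine ⟨sub_mem hF2 (add_mem (Ideal.mul_mem_left _ _ ?_) (Ideal.mul_mem_left _ _ ?_)), ?_, ?_, ?_⟩
    · rw [pow_zero, mul_one, pow_two]; exact mul_mem_Low (a := 1) (b := 1) (X_mem_Low 0) (X_mem_Low 0)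
    · rw [pow_one, pow_one]; exact mul_mem_Low (a := 1) (b := 1) (X_mem_Low 0) (X_mem_Low 1)
    all_goals simp only [map_sub, map_add, coeff_C_mul, coeff_mon]
    all_goals simp [h02, ← hq20, ← hq11]
  have hquad : ∀ (a b : MvPowerSeries (Fin 2) k) (ha : constantCoeff a = 0) (hb : constantCoeff b = 0),
      coeff (ex 0 2) (Ev ![a, b] (pair_mem ha hb) F) = coeff (ex 0 2) (C q20 * a ^ 2 + C q11 * (a * b)) := by
    intro a b ha hb
    have := mem_Low_bot.1 (Ev_mem ![a, b] (pair_mem ha hb) hrest) (ex 0 2) (by rw [degree_ex]; omega)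
    rw [map_sub, map_sub, sub_eq_zero] at this
    rw [this]
    congr 1
    simp only [map_add, map_mul, map_pow, c_eq_algebraMap, AlgHom.commutes, Ev_X, Matrix.cons_val_zero,
      Matrix.cons_val_one]
    ring
  by_cases h20 : q20 = 0
  · have h11 : q11 ≠ 0 := fun h11 => hF3 (low_three_iff.2 ⟨hF2, h20, h11, h02⟩)
    refine ⟨_, rel_sub (a := X 0 + X 1) (b := X 1) (by simp) (constantCoeff_X 1)
      (by simp [map_add, coeff_X, Finsupp.single_left_inj]) F, ?_⟩
    rw [hex, hquad (X 0 + X 1) (X 1) (by simp) (constantCoeff_X 1), h20, map_zero, zero_mul, zero_add, coeff_C_mul,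
      show ((X 0 + X 1) * X 1 : MvPowerSeries (Fin 2) k) = X 0 ^ 1 * X 1 ^ 1 + X 0 ^ 0 * X 1 ^ 2 by ring,
      map_add, coeff_mon, coeff_mon]
    simpa using h11
  · refine ⟨_, rel_sub (a := X 1) (b := X 0) (constantCoeff_X 1) (constantCoeff_X 0)
      (by simp [coeff_X, Finsupp.single_left_inj]) F, ?_⟩
    rw [hex, hquad (X 1) (X 0) (constantCoeff_X 1) (constantCoeff_X 0),
      show C q20 * X 1 ^ 2 + C q11 * (X 1 * X 0) =
        C q20 * (X 0 ^ 0 * X 1 ^ 2 : MvPowerSeries (Fin 2) k) + C q11 * (X 0 ^ 1 * X 1 ^ 1) by ring,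
      map_add, coeff_C_mul, coeff_C_mul, coeff_mon, coeff_mon]
    simpa using h20

/-- Germs of order at most two. -/
theorem classify [IsAlgClosed k] (h2 : (2 : k) ≠ 0) {F : MvPowerSeries (Fin 2) k} (h0 : constantCoeff F = 0)
    (hF3 : F ∉ Low (n := 2) (⊥ : Ideal k) 3) :
    (∃ n, Rel F (ArSing.eqn k n)) ∨ Rel F (X 1 ^ 2) := by
  classical
  by_cases hF2 : F ∈ Low (n := 2) (⊥ : Ideal k) 2
  swap
  · left
    refine ⟨0, (rel_smooth h0 hF2).symm.trans (rel_smooth eqn0 fun h => ?_)⟩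
    have := (low_two_iff.1 h).2.1
    rw [ArSing.eqn, map_sub, coeff_X_pow, coeff_X_pow, if_neg (fun h => by simpa using DFunLike.congr_fun h 0),
      if_pos rfl, zero_sub, neg_eq_zero] at this
    exact one_ne_zero this
  obtain ⟨G, hFG, hG⟩ := exists_rel_y2 hF2 hF3
  have hG2 := hFG.low hF2
  obtain ⟨g0, g1, g1'⟩ := low_two_iff.1 hG2
  obtain ⟨a, b, h, hdiv⟩ := exists_div g0 g1' hG (X 1 ^ 2)
  have hh0 : ∀ e : Fin 2 →₀ ℕ, e.degree < 2 → coeff e (h * G) = 0 := fun e he =>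
    mem_Low_bot.1 (Ideal.mul_mem_left _ _ hG2) e he
  have hc0 := congrArg constantCoeff hdiv
  have hc1 := congrArg (coeff (single (0 : Fin 2) 1)) hdiv
  have hc2 := congrArg (coeff (single (1 : Fin 2) 1)) hdiv
  have hc3 := congrArg (coeff (single (1 : Fin 2) 2)) hdiv
  rw [coeff_X_pow, if_neg (fun h => by simpa using DFunLike.congr_fun h 1), map_add, map_add, hh0 _ (by simp),
    coeff_ι, coeff_mul_X1, coeff_ι] at hc1
  rw [coeff_X_pow, if_neg (fun h => by simpa using DFunLike.congr_fun h 1), map_add, map_add, hh0 _ (by simp),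
    coeff_ι, coeff_mul_X1, coeff_ι] at hc2
  rw [coeff_X_pow, if_pos rfl, map_add, map_add, coeff_ι, coeff_mul_X1, coeff_ι] at hc3
  have hb0 : PowerSeries.constantCoeff b = 0 := by simpa using hc2.symm
  have ha1 : PowerSeries.coeff 1 a = 0 := by simpa using hc1.symm
  have ha0 : PowerSeries.constantCoeff a = 0 := by
    simpa [constantCoeff_ι, g0] using hc0.symm
  have hu : IsUnit h := by
    rw [isUnit_iff_constantCoeff, isUnit_iff_ne_zero]
    intro hh
    have : h * G ∈ Low (n := 2) (⊥ : Ideal k) 3 := mul_mem_Low (a := 1) (b := 2) (mem_low_one.2 hh) hG2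
    rw [mem_Low_bot.1 this _ (by simp)] at hc3
    simp at hc3
  have hGP : Ideal.span {G} = Ideal.span {X 1 ^ 2 - ι a - ι b * X 1} := by
    rw [show X 1 ^ 2 - ι a - ι b * X 1 = h * G by linear_combination hdiv, Ideal.span_singleton_mul_left_unit hu]
  -- complete the square
  set i2 : k := 2⁻¹
  have hV0 : constantCoeff (X 1 + ι (algebraMap k _ i2 * b) : MvPowerSeries (Fin 2) k) = 0 := by
    rw [map_add, constantCoeff_X, constantCoeff_ι, map_mul, hb0]; simp
  let γ : PowerSeries k := a + algebraMap k _ (i2 * i2) * (b * b)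
  have hr1 := rel_sub (a := X 0) (b := X 1 + ι (algebraMap k _ i2 * b)) (constantCoeff_X 0) hV0
    (by rw [map_add, map_add, coeff_ι, coeff_ι]; simp [coeff_X, Finsupp.single_left_inj]) (X 1 ^ 2 - ι a - ι b * X 1)
  have hi2 : algebraMap k (MvPowerSeries (Fin 2) k) i2 * 2 = 1 := by
    rw [← map_ofNat (algebraMap k (MvPowerSeries (Fin 2) k)) 2, ← map_mul, inv_mul_cancel₀ h2, map_one]
  have hev : Ev ![X 0, X 1 + ι (algebraMap k _ i2 * b)] (pair_mem (constantCoeff_X 0) hV0)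
      (X 1 ^ 2 - ι a - ι b * X 1) = X 1 ^ 2 - ι γ := by
    simp only [γ, map_sub, map_mul, map_pow, map_add, Ev_ι _ _ (show ![X 0, _] 0 = X 0 from Matrix.cons_val_zero ..),
      Ev_X, Matrix.cons_val_one, Matrix.cons_val_fin_one, AlgHom.commutes]
    linear_combination (X 1 * ι b + algebraMap k (MvPowerSeries (Fin 2) k) i2 * (ι b * ι b)) * hi2
  rw [hev] at hr1
  have hFγ : Rel F (X 1 ^ 2 - ι γ) := hFG.trans ((Rel.of_eq hGP).trans hr1)
  by_cases hγ : γ = 0
  · right; rwa [hγ, map_zero, sub_zero] at hFγ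
  left
  have hexn : ∃ n, PowerSeries.coeff n γ ≠ 0 := by
    by_contra hh; push Not at hh; exact hγ (PowerSeries.ext fun n => by simpa using hh n)
  obtain ⟨e, he⟩ : PowerSeries.X ^ (Nat.find hexn) ∣ γ :=
    PowerSeries.X_pow_dvd_iff.2 fun m hm => not_not.1 (Nat.find_min hexn hm)
  have hne : PowerSeries.constantCoeff e ≠ 0 := by
    have h := Nat.find_spec hexn
    have he2 := congrArg (PowerSeries.coeff (Nat.find hexn)) he
    have h' := PowerSeries.coeff_X_pow_mul e (Nat.find hexn) 0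
    rw [Nat.zero_add, PowerSeries.coeff_zero_eq_constantCoeff_apply] at h'
    rw [h'] at he2; exact he2 ▸ h
  have hn1 : 1 ≤ Nat.find hexn := by
    refine Nat.one_le_iff_ne_zero.2 fun h => ?_
    have := Nat.find_spec hexn
    rw [h] at this
    exact this (by simp [γ, ha0, hb0])
  obtain ⟨r, hr⟩ : ∃ r, Nat.find hexn = r + 1 := ⟨_, (Nat.sub_add_cancel hn1).symm⟩
  rw [hr] at he
  refine ⟨r, hFγ.trans ?_⟩
  obtain ⟨f, hf⟩ := exists_sqrt h2 hne
  have hf0 : PowerSeries.constantCoeff f ≠ 0 := fun h => hne (by rw [← hf, map_mul, h, mul_zero])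
  have hW0 : constantCoeff (X 1 * ι f : MvPowerSeries (Fin 2) k) = 0 := by simp
  have hr2 := rel_sub (a := X 0) (b := X 1 * ι f) (constantCoeff_X 0) hW0 (by
    rw [mul_comm (X 1) (ι f), coeff_mul_X1, coeff_mul_X1]
    simpa [coeff_X, coeff_ι, Finsupp.single_left_inj] using hf0) (X 1 ^ 2 - ι γ)
  refine hr2.trans (Rel.of_eq ?_)
  have hu' : IsUnit (ι e : MvPowerSeries (Fin 2) k) := by
    rw [isUnit_iff_constantCoeff, isUnit_iff_ne_zero, constantCoeff_ι]; exact hne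
  rw [map_sub, map_pow, Ev_X, Ev_ι _ _ (Matrix.cons_val_zero ..), Matrix.cons_val_one, Matrix.cons_val_fin_one, he,
    ← hf, map_mul, map_pow, map_mul, ι_X,
    show (X 1 * ι f) ^ 2 - X 0 ^ (r + 1) * (ι f * ι f) = ι f * ι f * ArSing.eqn k r by rw [ArSing.eqn]; ring,
    ← map_mul, hf, Ideal.span_singleton_mul_left_unit hu']

/-- Translation of a polynomial. -/
noncomputable def shift (a : Fin 2 → k) : MvPolynomial (Fin 2) k →ₐ[k] MvPolynomial (Fin 2) k :=
  MvPolynomial.aeval fun i => MvPolynomial.X i + MvPolynomial.C (a i)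

lemma constantCoeff_shift (a : Fin 2 → k) (p : MvPolynomial (Fin 2) k) :
    MvPolynomial.constantCoeff (shift a p) = MvPolynomial.eval a p := by
  induction p using MvPolynomial.induction_on with
  | C c => simp [shift]
  | add p q hp hq => simp [hp, hq]
  | mul_X p i hp => simp [shift] at hp ⊢; simp [hp]

lemma pderiv_shift (a : Fin 2 → k) (i : Fin 2) (p : MvPolynomial (Fin 2) k) :
    MvPolynomial.pderiv i (shift a p) = shift a (MvPolynomial.pderiv i p) := by
  induction p using MvPolynomial.induction_on with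
  | C c => simp [shift]
  | add p q hp hq => simp [hp, hq]
  | mul_X p j hp =>
    rw [map_mul, Derivation.leibniz, Derivation.leibniz, hp]
    simp only [smul_eq_mul, map_add, map_mul]
    rw [show shift a (MvPolynomial.X j) = MvPolynomial.X j + MvPolynomial.C (a j) from MvPolynomial.aeval_X ..,
      map_add, MvPolynomial.pderiv_C, add_zero]
    by_cases h : j = i
    · subst h; simp
    · simp [MvPolynomial.pderiv_X_of_ne h]

end ArSingLib
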