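import Groth.Agent.ArSingLib.NF

/-! Coordinates with respect to the normal form, and automorphisms of `k[[x,y]]/(y²-x^(r+1))`. -/

universe u

namespace ArSingLib

open MvPowerSeries Finsupp MorseLib

variable {k : Type u} [Field k] {r : ℕ}

/-- The component of `1`. -/
noncomputable def cp (a : ArSing.ring k r) : PowerSeries k := (exists_nf a).choose

/-- The component of `y`. -/
noncomputable def cq (a : ArSing.ring k r) : PowerSeries k := (exists_nf a).choose_spec.choose

lemma eq_nf (a : ArSing.ring k r) :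
    a = ArSing.xMap k r (cp a) + ArSing.xMap k r (cq a) * ArSing.y k r :=
  (exists_nf a).choose_spec.choose_spec

lemma cp_nf (p q : PowerSeries k) : cp (ArSing.xMap k r p + ArSing.xMap k r q * ArSing.y k r) = p :=
  (nf_inj (eq_nf _)).1.symm

lemma cq_nf (p q : PowerSeries k) : cq (ArSing.xMap k r p + ArSing.xMap k r q * ArSing.y k r) = q :=
  (nf_inj (eq_nf _)).2.symm

lemma cp_xMap (p : PowerSeries k) : cp (ArSing.xMap k r p) = p := by simpa using cp_nf (r := r) p 0
lemma cq_xMap (p : PowerSeries k) : cq (ArSing.xMap k r p) = 0 := by simpa using cq_nf (r := r) p 0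
lemma cp_y : cp (ArSing.y k r) = 0 := by simpa using cp_nf (k := k) (r := r) 0 1
lemma cq_y : cq (ArSing.y k r) = 1 := by simpa using cq_nf (k := k) (r := r) 0 1
lemma cp_x : cp (ArSing.x k r) = PowerSeries.X := by rw [← xMap_X, cp_xMap]
lemma cq_x : cq (ArSing.x k r) = 0 := by rw [← xMap_X, cq_xMap]

lemma add_comp (a b : ArSing.ring k r) : cp (a + b) = cp a + cp b ∧ cq (a + b) = cq a + cq b :=
  nf_inj (r := r) <| by
    rw [← eq_nf, map_add, map_add]
    conv_lhs => rw [eq_nf a, eq_nf b]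
    ring

lemma cp_add (a b : ArSing.ring k r) : cp (a + b) = cp a + cp b := (add_comp a b).1
lemma cq_add (a b : ArSing.ring k r) : cq (a + b) = cq a + cq b := (add_comp a b).2

lemma cp_sub (a b : ArSing.ring k r) : cp (a - b) = cp a - cp b := by
  rw [eq_sub_iff_add_eq, ← cp_add, sub_add_cancel]

lemma cq_sub (a b : ArSing.ring k r) : cq (a - b) = cq a - cq b := by
  rw [eq_sub_iff_add_eq, ← cq_add, sub_add_cancel]

lemma mul_comp (a b : ArSing.ring k r) :
    cp (a * b) = cp a * cp b + cq a * cq b * PowerSeries.X ^ (r + 1) ∧ cq (a * b) = cp a * cq b + cq a * cp b :=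
  nf_inj (r := r) <| by rw [← eq_nf, ← nf_mul, ← eq_nf, ← eq_nf]

lemma cp_mul (a b : ArSing.ring k r) : cp (a * b) = cp a * cp b + cq a * cq b * PowerSeries.X ^ (r + 1) :=
  (mul_comp a b).1

lemma cq_mul (a b : ArSing.ring k r) : cq (a * b) = cp a * cq b + cq a * cp b := (mul_comp a b).2

/-- The residue of an element. -/
noncomputable def e0 (a : ArSing.ring k r) : k := PowerSeries.constantCoeff (cp a)
/-- The coefficient of `x`. -/
noncomputable def e1 (a : ArSing.ring k r) : k := PowerSeries.coeff 1 (cp a)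
/-- The coefficient of `y`. -/
noncomputable def e2 (a : ArSing.ring k r) : k := PowerSeries.constantCoeff (cq a)

lemma mem_max_iff (a : ArSing.ring k r) : a ∈ IsLocalRing.maximalIdeal (ArSing.ring k r) ↔ e0 a = 0 := by
  conv_lhs => rw [eq_nf a]
  rw [mem_max_nf, e0]

lemma e0_add (a b : ArSing.ring k r) : e0 (a + b) = e0 a + e0 b := by simp [e0, cp_add]
lemma e1_add (a b : ArSing.ring k r) : e1 (a + b) = e1 a + e1 b := by simp [e1, cp_add]
lemma e2_add (a b : ArSing.ring k r) : e2 (a + b) = e2 a + e2 b := by simp [e2, cq_add]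
lemma e0_sub (a b : ArSing.ring k r) : e0 (a - b) = e0 a - e0 b := by simp [e0, cp_sub]
lemma e1_sub (a b : ArSing.ring k r) : e1 (a - b) = e1 a - e1 b := by simp [e1, cp_sub]
lemma e2_sub (a b : ArSing.ring k r) : e2 (a - b) = e2 a - e2 b := by simp [e2, cq_sub]

lemma e0_mul (a b : ArSing.ring k r) : e0 (a * b) = e0 a * e0 b := by simp [e0, cp_mul]
lemma e2_mul (a b : ArSing.ring k r) : e2 (a * b) = e0 a * e2 b + e2 a * e0 b := by simp [e0, e2, cq_mul]
lemma e1_mul (hr : 1 ≤ r) (a b : ArSing.ring k r) : e1 (a * b) = e0 a * e1 b + e1 a * e0 b := by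
  rw [e1, cp_mul, map_add, show r + 1 = 2 + (r - 1) by omega, pow_add,
    show cq a * cq b * (PowerSeries.X ^ 2 * PowerSeries.X ^ (r - 1)) =
      PowerSeries.X ^ 2 * (cq a * cq b * PowerSeries.X ^ (r - 1)) by ring,
    PowerSeries.X_pow_dvd_iff.1 (dvd_mul_right _ _) 1 one_lt_two, add_zero, PowerSeries.coeff_one_mul]
  simp only [e0, e1]
  ring

lemma algebraMap_eq_xMap (c : k) : algebraMap k (ArSing.ring k r) c = ArSing.xMap k r (PowerSeries.C c) :=
  ((ArSing.xMap k r).commutes c).symm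

lemma e0_algebraMap (c : k) : e0 (algebraMap k (ArSing.ring k r) c) = c := by
  simp [e0, algebraMap_eq_xMap, cp_xMap]

lemma e1_algebraMap (c : k) : e1 (algebraMap k (ArSing.ring k r) c) = 0 := by
  simp [e1, algebraMap_eq_xMap, cp_xMap, PowerSeries.coeff_C]

lemma e2_algebraMap (c : k) : e2 (algebraMap k (ArSing.ring k r) c) = 0 := by
  simp [e2, algebraMap_eq_xMap, cq_xMap]

lemma e_x : e0 (ArSing.x k r) = 0 ∧ e1 (ArSing.x k r) = 1 ∧ e2 (ArSing.x k r) = 0 := by
  simp [e0, e1, e2, cp_x, cq_x]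

lemma e_y : e0 (ArSing.y k r) = 0 ∧ e1 (ArSing.y k r) = 0 ∧ e2 (ArSing.y k r) = 1 := by
  simp [e0, e1, e2, cp_y, cq_y]

/-- An algebra endomorphism preserves the residue. -/
lemma e0_map (σ : ArSing.ring k r ≃ₐ[k] ArSing.ring k r) (a : ArSing.ring k r) : e0 (σ a) = e0 a := by
  have h : a - algebraMap k _ (e0 a) ∈ IsLocalRing.maximalIdeal (ArSing.ring k r) := by
    rw [mem_max_iff, e0_sub, e0_algebraMap, sub_self]
  have h' : σ (a - algebraMap k _ (e0 a)) ∈ IsLocalRing.maximalIdeal (ArSing.ring k r) := by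
    rw [IsLocalRing.mem_maximalIdeal, mem_nonunits_iff] at h ⊢
    exact fun hu => h (by simpa using hu.map σ.symm)
  rw [map_sub, AlgEquiv.commutes, mem_max_iff, e0_sub, e0_algebraMap, sub_eq_zero] at h'
  exact h'

/-- The linear part of an automorphism. -/
lemma e12_map (hr : 1 ≤ r) (σ : ArSing.ring k r ≃ₐ[k] ArSing.ring k r) {a : ArSing.ring k r} (ha : e0 a = 0) :
    e1 (σ a) = e1 a * e1 (σ (ArSing.x k r)) + e2 a * e1 (σ (ArSing.y k r)) ∧
      e2 (σ a) = e1 a * e2 (σ (ArSing.x k r)) + e2 a * e2 (σ (ArSing.y k r)) := by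
  obtain ⟨p', hp⟩ := PowerSeries.X_dvd_iff.2 ha
  have hx0 : e0 (σ (ArSing.x k r)) = 0 := by rw [e0_map, e_x.1]
  have hy0 : e0 (σ (ArSing.y k r)) = 0 := by rw [e0_map, e_y.1]
  have hp' : e1 a = PowerSeries.constantCoeff p' := by
    rw [e1, hp, PowerSeries.coeff_succ_X_mul, PowerSeries.coeff_zero_eq_constantCoeff_apply]
  have hσ : σ a = σ (ArSing.x k r) * σ (ArSing.xMap k r p') + σ (ArSing.xMap k r (cq a)) * σ (ArSing.y k r) := by
    conv_lhs => rw [eq_nf a, hp, map_mul, xMap_X]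
    rw [map_add, map_mul, map_mul]
  have h0 : ∀ p, e0 (σ (ArSing.xMap k r p)) = PowerSeries.constantCoeff p := fun p => by
    rw [e0_map, e0, cp_xMap]
  rw [hσ, e1_add, e2_add, e1_mul hr, e1_mul hr, e2_mul, e2_mul, hx0, hy0, h0, h0, hp',
    show e2 a = PowerSeries.constantCoeff (cq a) from rfl]
  constructor <;> ring

/-- A lift of an element to the power series ring. -/
noncomputable def lift2 (a : ArSing.ring k r) : MvPowerSeries (Fin 2) k := ι (cp a) + ι (cq a) * X 1

lemma mk_lift2 (a : ArSing.ring k r) : Ideal.Quotient.mk (Ideal.span {ArSing.eqn k r}) (lift2 a) = a := by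
  rw [lift2, map_add, map_mul, ← xMap_eq, ← xMap_eq]
  exact (eq_nf a).symm

lemma lift2_mem {a : ArSing.ring k r} (ha : e0 a = 0) : lift2 a ∈ Low (n := 2) (⊥ : Ideal k) 1 := by
  rw [mem_low_one, lift2, map_add, map_mul, constantCoeff_X, mul_zero, add_zero, constantCoeff_ι]
  exact ha

lemma coeff_lift2_x (a : ArSing.ring k r) : coeff (single 0 1) (lift2 a) = e1 a := by
  rw [lift2, map_add, coeff_ι, coeff_mul_X1]
  simp [e1]

lemma coeff_lift2_y (a : ArSing.ring k r) : coeff (single 1 1) (lift2 a) = e2 a := by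
  rw [lift2, map_add, coeff_ι, coeff_mul_X1]
  simp [e2, coeff_ι]

/-- The lifted substitution of a pair of elements of the maximal ideal. -/
noncomputable def sub2 (u v : ArSing.ring k r) (hu : e0 u = 0) (hv : e0 v = 0) :
    MvPowerSeries (Fin 2) k →ₐ[k] MvPowerSeries (Fin 2) k :=
  Ev ![lift2 u, lift2 v] (fun i => by fin_cases i; exacts [lift2_mem hu, lift2_mem hv])

lemma sub2_bijective {u v : ArSing.ring k r} (hu : e0 u = 0) (hv : e0 v = 0)
    (hdet : e1 u * e2 v - e2 u * e1 v ≠ 0) : Function.Bijective (sub2 u v hu hv) := by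
  refine Ev_bijective _ _ ?_
  rw [Matrix.det_fin_two, isUnit_iff_ne_zero]
  simpa [jac, coeff_lift2_x, coeff_lift2_y] using hdet

/-- An automorphism with given values on `x` and `y`. -/
theorem exists_aut {u v : ArSing.ring k r} (hu : e0 u = 0) (hv : e0 v = 0)
    (hdet : e1 u * e2 v - e2 u * e1 v ≠ 0) (hrel : v * v = u ^ (r + 1)) :
    ∃ φ : ArSing.ring k r ≃ₐ[k] ArSing.ring k r, φ (ArSing.x k r) = u ∧ φ (ArSing.y k r) = v := by
  let ψ : MvPowerSeries (Fin 2) k →ₐ[k] ArSing.ring k r :=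
    (Ideal.Quotient.mkₐ k _).comp (sub2 u v hu hv)
  have hX : ψ (X 0) = u ∧ ψ (X 1) = v := by
    simp [ψ, sub2, Ev_X, mk_lift2]
  have h0 : ∀ f ∈ Ideal.span {ArSing.eqn k r}, ψ f = 0 := by
    intro f hf
    obtain ⟨g, rfl⟩ := Ideal.mem_span_singleton'.1 hf
    have : ψ (ArSing.eqn k r) = ψ (X 1) ^ 2 - ψ (X 0) ^ (r + 1) :=
      (map_sub ψ (X 1 ^ 2) (X 0 ^ (r + 1))).trans (by rw [map_pow, map_pow])
    rw [map_mul, this, hX.1, hX.2, pow_two, hrel, sub_self, mul_zero]
  let φ : ArSing.ring k r →ₐ[k] ArSing.ring k r := Ideal.Quotient.liftₐ _ ψ h0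
  have hs : Function.Surjective φ := by
    intro a
    obtain ⟨a, rfl⟩ := Ideal.Quotient.mk_surjective a
    obtain ⟨f, rfl⟩ := (sub2_bijective hu hv hdet).2 a
    exact ⟨Ideal.Quotient.mk _ f, rfl⟩
  exact ⟨AlgEquiv.ofBijective φ ⟨injective_of_surjective φ.toRingHom hs, hs⟩, hX.1, hX.2⟩

/-- Square roots of units of `k[[t]]`. -/
theorem exists_sqrt [IsAlgClosed k] (h2 : (2 : k) ≠ 0) {e : PowerSeries k}
    (he : PowerSeries.constantCoeff e ≠ 0) : ∃ f, f * f = e := by
  obtain ⟨s, hs⟩ := IsAlgClosed.exists_eq_mul_self (PowerSeries.constantCoeff e)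
  set c := PowerSeries.constantCoeff e
  let P : PowerSeries k := (1 + PowerSeries.X) ^ 2 - 1
  have hP0 : PowerSeries.constantCoeff P = 0 := by simp [P]
  have hP1 : IsUnit (PowerSeries.coeff 1 P) := by
    rw [isUnit_iff_ne_zero]
    have : PowerSeries.coeff 1 P = 2 := by
      simp only [P, add_sq, one_pow, map_sub, map_add, mul_one, PowerSeries.coeff_one,
        PowerSeries.coeff_X_pow]
      rw [show (2 : PowerSeries k) * PowerSeries.X = PowerSeries.C (2 : k) * PowerSeries.X by rw [map_ofNat],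
        PowerSeries.coeff_C_mul, PowerSeries.coeff_one_X]
      simp
    rw [this]; exact h2
  set Q := P.substInvOfIsUnit hP1
  let g := PowerSeries.C c⁻¹ * e - 1
  have hg0 : PowerSeries.constantCoeff g = 0 := by simp [g, c, inv_mul_cancel₀ he]
  have hg := PowerSeries.HasSubst.of_constantCoeff_zero' hg0
  have hQ := PowerSeries.HasSubst.substInvOfIsUnit P hP1
  let T := (PowerSeries.substAlgHom (R := k) hg).comp (PowerSeries.substAlgHom hQ)
  have hT : T P = g := by
    simp only [T, AlgHom.comp_apply, PowerSeries.coe_substAlgHom]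
    rw [PowerSeries.subst_substInvOfIsUnit_right P hP0, PowerSeries.subst_X hg]
  refine ⟨PowerSeries.C s * (1 + T PowerSeries.X), ?_⟩
  have h1 : (1 + T PowerSeries.X) ^ 2 = PowerSeries.C c⁻¹ * e := by
    simp only [P, map_sub, map_pow, map_add, map_one] at hT
    linear_combination hT
  have h3 : PowerSeries.C c * PowerSeries.C c⁻¹ = (1 : PowerSeries k) := by
    rw [← map_mul, mul_inv_cancel₀ he, map_one]
  calc _ = PowerSeries.C (s * s) * (1 + T PowerSeries.X) ^ 2 := by rw [map_mul]; ring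
    _ = e := by rw [h1, ← hs, ← mul_assoc, h3, one_mul]

end ArSingLib
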