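import Groth.Agent.ArSingLib.Jac

/-! Division by a power series of order two in the second variable. -/

universe u

namespace ArSingLib

open MvPowerSeries Finsupp

variable {k : Type u} [Field k]

/-- Series in the first variable. -/
noncomputable def ι : PowerSeries k →ₐ[k] MvPowerSeries (Fin 2) k :=
  PowerSeries.substAlgHom (PowerSeries.HasSubst.X 0)

lemma coeff_ι (a : PowerSeries k) (e : Fin 2 →₀ ℕ) :
    coeff e (ι a) = if e 1 = 0 then PowerSeries.coeff (e 0) a else 0 := by
  classical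
  rw [ι, PowerSeries.coe_substAlgHom, PowerSeries.coeff_subst_single]
  refine if_congr ⟨fun h => ?_, fun h => ?_⟩ rfl rfl
  · rw [h]; simp
  · ext i; fin_cases i <;> simp [h]

lemma ι_X : ι (PowerSeries.X : PowerSeries k) = X 0 := PowerSeries.substAlgHom_X _

/-- The exponent of `x^i y^j`. -/
noncomputable def ex (i j : ℕ) : Fin 2 →₀ ℕ := single 0 i + single 1 j

lemma ex_zero (i j : ℕ) : ex i j 0 = i := by simp [ex]
lemma ex_one (i j : ℕ) : ex i j 1 = j := by simp [ex]
lemma ex_eta (e : Fin 2 →₀ ℕ) : ex (e 0) (e 1) = e := by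
  ext i; fin_cases i <;> simp [ex]
lemma degree_ex (i j : ℕ) : (ex i j).degree = i + j := by
  simp [ex]

/-- The coefficient of `y^0`. -/
noncomputable def p0 (f : MvPowerSeries (Fin 2) k) : PowerSeries k :=
  PowerSeries.mk fun i => coeff (ex i 0) f

/-- The coefficient of `y`. -/
noncomputable def p1 (f : MvPowerSeries (Fin 2) k) : PowerSeries k :=
  PowerSeries.mk fun i => coeff (ex i 1) f

/-- The quotient by `y^2`. -/
noncomputable def Q2 : MvPowerSeries (Fin 2) k →ₗ[k] MvPowerSeries (Fin 2) k where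
  toFun f := fun e => coeff (e + single 1 2) f
  map_add' f g := by ext e; exact map_add (coeff (e + single 1 2)) f g
  map_smul' c f := by ext e; exact map_smul (coeff (e + single 1 2)) c f

lemma coeff_Q2 (f : MvPowerSeries (Fin 2) k) (e : Fin 2 →₀ ℕ) :
    coeff e (Q2 f) = coeff (e + single 1 2) f := rfl

lemma coeff_mul_X1 (f : MvPowerSeries (Fin 2) k) (e : Fin 2 →₀ ℕ) :
    coeff e (f * X 1) = if 1 ≤ e 1 then coeff (e - single 1 1) f else 0 := by
  classical
  rw [mul_comm, X_def, coeff_monomial_mul, one_mul]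
  refine if_congr ?_ rfl rfl
  simp

lemma coeff_X1_sq_mul (f : MvPowerSeries (Fin 2) k) (e : Fin 2 →₀ ℕ) :
    coeff e (X 1 ^ 2 * f) = if 2 ≤ e 1 then coeff (e - single 1 2) f else 0 := by
  classical
  rw [X_pow_eq, coeff_monomial_mul, one_mul]
  refine if_congr ?_ rfl rfl
  simp

lemma decomp (f : MvPowerSeries (Fin 2) k) :
    f = ι (p0 f) + ι (p1 f) * X 1 + X 1 ^ 2 * Q2 f := by
  ext e
  rw [map_add, map_add, coeff_ι, coeff_mul_X1, coeff_ι, coeff_X1_sq_mul, coeff_Q2]
  rcases Nat.lt_or_ge (e 1) 2 with h | h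
  · rw [if_neg (not_le.2 h), add_zero]
    rcases Nat.eq_zero_or_pos (e 1) with h0 | h0
    · rw [if_pos h0, if_neg (by omega), add_zero, p0, PowerSeries.coeff_mk]
      conv_lhs => rw [← ex_eta e, h0]
    · rw [if_neg h0.ne', if_pos (show 1 ≤ e 1 from h0), if_pos (by simp; omega), zero_add, p1, PowerSeries.coeff_mk]
      conv_lhs => rw [← ex_eta e]
      rw [show e 1 = 1 by omega]
      simp
  · rw [if_neg (by omega), if_pos (show 1 ≤ e 1 by omega), if_neg (by simp; omega), if_pos h, zero_add,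
      zero_add]
    congr 1
    rw [tsub_add_cancel_of_le]
    simpa using h

lemma Q2_lin_eq_zero (a b : PowerSeries k) : Q2 (ι a + ι b * X 1) = 0 := by
  ext e
  rw [coeff_Q2, map_add, coeff_ι, coeff_mul_X1, coeff_ι, if_neg (by simp),
    if_pos (by simp), if_neg (by simp), add_zero, map_zero]

lemma Q2_X1_sq_mul (f : MvPowerSeries (Fin 2) k) : Q2 (X 1 ^ 2 * f) = f := by
  ext e
  rw [coeff_Q2, coeff_X1_sq_mul, if_pos (by simp), add_tsub_cancel_right]

lemma Q2_dvd {d : ℕ} {f : MvPowerSeries (Fin 2) k} (hf : X 0 ^ d ∣ f) : X 0 ^ d ∣ Q2 f := by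
  rw [X_pow_dvd_iff] at hf ⊢
  intro e he
  rw [coeff_Q2]
  exact hf _ (by simpa using he)

lemma eq_zero_of_lin {a b : PowerSeries k} (h : ι a + ι b * X 1 = 0) : a = 0 ∧ b = 0 := by
  constructor <;> ext i
  · have := congrArg (coeff (ex i 0)) h
    simpa [coeff_ι, coeff_mul_X1, ex_zero, ex_one] using this
  · have := congrArg (coeff (ex i 1)) h
    simpa [coeff_ι, coeff_mul_X1, ex_zero, ex_one] using this

variable {G : MvPowerSeries (Fin 2) k}

lemma rest_dvd (h0 : constantCoeff G = 0) (h1 : coeff (single 1 1) G = 0) :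
    X 0 ∣ ι (p0 G) + ι (p1 G) * X 1 := by
  rw [X_dvd_iff]
  intro e he
  rw [map_add, coeff_ι, coeff_mul_X1, coeff_ι]
  have e0 : ex 0 0 = (0 : Fin 2 →₀ ℕ) := by simp [ex]
  have e1 : ex 0 1 = single (1 : Fin 2) 1 := by simp [ex]
  split_ifs with a b c <;>
    simp [p0, p1, he, e0, e1, h1, coeff_zero_eq_constantCoeff, h0]

lemma isUnit_Q2 (h2 : coeff (single 1 2) G ≠ 0) : IsUnit (Q2 G) := by
  rw [isUnit_iff_constantCoeff, isUnit_iff_ne_zero, ← coeff_zero_eq_constantCoeff, coeff_Q2, zero_add]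
  exact h2

/-- Division. -/
theorem exists_div (h0 : constantCoeff G = 0) (h1 : coeff (single 1 1) G = 0)
    (h2 : coeff (single 1 2) G ≠ 0) (f : MvPowerSeries (Fin 2) k) :
    ∃ a b h, f = ι a + ι b * X 1 + h * G := by
  obtain ⟨W', hW'⟩ := (isUnit_Q2 h2).exists_left_inv
  set R := ι (p0 G) + ι (p1 G) * X 1
  let T : MvPowerSeries (Fin 2) k → MvPowerSeries (Fin 2) k := fun h => W' * Q2 (f - h * R)
  let s : ℕ → MvPowerSeries (Fin 2) k := fun N => T^[N] 0
  have hd : ∀ N, X 0 ^ N ∣ s (N + 1) - s N := by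
    intro N
    induction N with
    | zero => simp
    | succ N ih =>
      simp only [s, Function.iterate_succ_apply'] at ih ⊢
      simp only [T, ← mul_sub, ← map_sub, sub_sub_sub_cancel_left, ← sub_mul]
      refine dvd_mul_of_dvd_right (Q2_dvd ?_) _
      rw [pow_succ]
      exact mul_dvd_mul (by
        have := (dvd_neg).2 ih
        rwa [neg_sub] at this) (rest_dvd h0 h1)
  have hmono : ∀ M N, M ≤ N → X 0 ^ M ∣ s N - s M := by
    intro M N h
    induction N, h using Nat.le_induction with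
    | base => simp
    | succ N hN ih => simpa using dvd_add ((pow_dvd_pow _ hN).trans (hd N)) ih
  let l : MvPowerSeries (Fin 2) k := fun e => coeff e (s (e 0 + 1))
  have hl : ∀ N, X 0 ^ N ∣ l - s N := by
    intro N
    rw [X_pow_dvd_iff]
    intro e he
    rw [map_sub]
    have := (X_pow_dvd_iff.1 (hmono (e 0 + 1) N he)) e (by omega)
    rw [map_sub, sub_eq_zero] at this
    exact sub_eq_zero.2 this.symm
  have hfix : T l = l := by
    rw [← sub_eq_zero]
    ext e
    have e1 : X 0 ^ (e 0 + 1) ∣ T l - T (s (e 0)) := by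
      simp only [T, ← mul_sub, ← map_sub, sub_sub_sub_cancel_left, ← sub_mul]
      refine dvd_mul_of_dvd_right (Q2_dvd ?_) _
      rw [pow_succ]
      exact mul_dvd_mul (by
        have := (dvd_neg).2 (hl (e 0))
        rwa [neg_sub] at this) (rest_dvd h0 h1)
    have e2 := hl (e 0 + 1)
    simp only [s, Function.iterate_succ_apply'] at e2
    have := X_pow_dvd_iff.1 (dvd_sub e1 e2) e (Nat.lt_succ_self _)
    simp only [s, sub_sub_sub_cancel_right] at this
    rw [map_zero]
    exact this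
  have hW : l * Q2 G = Q2 (f - l * R) := by
    conv_lhs => rw [← hfix]
    simp only [T]
    rw [mul_comm, ← mul_assoc, mul_comm (Q2 G), hW', one_mul]
  refine ⟨p0 (f - l * R), p1 (f - l * R), l, ?_⟩
  have h3 := decomp (f - l * R)
  rw [← hW] at h3
  conv_rhs => arg 2; rw [decomp G]
  linear_combination h3

/-- Uniqueness of division. -/
theorem div_unique (h0 : constantCoeff G = 0) (h1 : coeff (single 1 1) G = 0)
    (h2 : coeff (single 1 2) G ≠ 0) {a b : PowerSeries k} {h : MvPowerSeries (Fin 2) k}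
    (heq : ι a + ι b * X 1 = h * G) : a = 0 ∧ b = 0 := by
  obtain ⟨W', hW'⟩ := (isUnit_Q2 h2).exists_left_inv
  set R := ι (p0 G) + ι (p1 G) * X 1 with hR
  have hfix : h = -(W' * Q2 (h * R)) := by
    have h3 := congrArg (fun z => W' * Q2 z) heq
    simp only [Q2_lin_eq_zero, mul_zero] at h3
    rw [show h * G = h * R + X 1 ^ 2 * (h * Q2 G) by
      conv_lhs => rw [decomp G]
      rw [hR]; ring, map_add, Q2_X1_sq_mul, mul_add, mul_comm h (Q2 G), ← mul_assoc, hW', one_mul] at h3
    linear_combination -h3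
  have hdvd : ∀ N, X 0 ^ N ∣ h := by
    intro N
    induction N with
    | zero => simp
    | succ N ih =>
      rw [hfix, dvd_neg]
      refine dvd_mul_of_dvd_right (Q2_dvd ?_) _
      rw [pow_succ]
      exact mul_dvd_mul ih (rest_dvd h0 h1)
  have hh : h = 0 := by
    ext e
    rw [map_zero]
    exact X_pow_dvd_iff.1 (hdvd (e 0 + 1)) e (Nat.lt_succ_self _)
  rw [hh, zero_mul] at heq
  exact eq_zero_of_lin heq

end ArSingLib
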