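import Groth.Agent.ArSingLib.Classify

/-! Polynomials whose germ at the origin is a double smooth germ. -/

universe u

namespace ArSingLib

open MorseLib Finsupp

variable {k : Type u} [Field k]

open MvPowerSeries in
theorem prime_X1 : Prime (X 1 : MvPowerSeries (Fin 2) k) := by
  classical
  have hs : HasSubst (![PowerSeries.X, 0] : Fin 2 → PowerSeries k) :=
    hasSubst_of_constantCoeff_zero fun i => by
      fin_cases i
      · exact PowerSeries.constantCoeff_X
      · exact map_zero _
  let R := substAlgHom (R := k) hs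
  have hRι : ∀ p, R (ι p) = p := fun p => AlgHom.congr_fun (ps_hom_ext (φ := R.comp ι) (ψ := AlgHom.id k _)
    (by
      rw [AlgHom.comp_apply, ι_X, substAlgHom_X, Matrix.cons_val_zero, PowerSeries.maximalIdeal_eq_span_X]
      exact Ideal.mem_span_singleton_self _)
    (by rw [AlgHom.comp_apply, ι_X, substAlgHom_X, Matrix.cons_val_zero, AlgHom.id_apply])) p
  have hR1 : R (X 1) = 0 := by rw [substAlgHom_X]; rfl
  have hiff : ∀ f, X 1 ∣ f ↔ R f = 0 := by
    intro f
    refine ⟨fun ⟨c, hc⟩ => by rw [hc, map_mul, hR1, zero_mul], fun h => ?_⟩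
    have hd := decomp f
    have hp : p0 f = 0 := by
      have := congrArg R hd
      simp only [map_add, map_mul, map_pow, hRι, hR1, mul_zero, zero_pow two_ne_zero, zero_mul, add_zero, h] at this
      exact this.symm
    rw [hd, hp, map_zero, zero_add]
    exact dvd_add (dvd_mul_left _ _) (dvd_mul_of_dvd_left (dvd_pow_self _ two_ne_zero) _)
  refine ⟨fun h => ?_, fun h => ?_, fun a b h => ?_⟩
  · have := congrArg (coeff (single (1 : Fin 2) 1)) h
    simp at this
  · rw [isUnit_iff_constantCoeff, constantCoeff_X] at h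
    exact not_isUnit_zero h
  · rw [hiff, map_mul, mul_eq_zero] at h
    rwa [hiff, hiff]

/-- An algebraically closed field: a polynomial with vanishing partial derivatives is not prime. -/
theorem not_prime_of_pderiv [IsAlgClosed k] {p : MvPolynomial (Fin 2) k}
    (hd : ∀ i, MvPolynomial.pderiv i p = 0) : ¬ Prime p := by
  classical
  intro hp
  have hsupp : ∀ m ∈ p.support, ∀ i, ((m i : ℕ) : k) = 0 := by
    intro m hm i
    by_cases h : m i = 0
    · simp [h]
    have hle : single i 1 ≤ m := by simpa using Nat.one_le_iff_ne_zero.2 h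
    have := congrArg (MvPolynomial.coeff (m - single i 1)) (hd i)
    rw [MvPolynomial.coeff_pderiv, tsub_add_cancel_of_le hle, MvPolynomial.coeff_zero] at this
    have h1 := (mul_eq_zero.1 this).resolve_left (MvPolynomial.mem_support_iff.1 hm)
    rw [Finsupp.tsub_apply, Finsupp.single_eq_same] at h1
    rw [← Nat.sub_add_cancel (Nat.one_le_iff_ne_zero.2 h)]
    push_cast
    exact h1
  rcases CharP.exists' k with h0 | ⟨ℓ, ⟨hℓ⟩, hchar⟩
  · have hsub : ∀ m ∈ p.support, m = 0 := fun m hm => Finsupp.ext fun i => by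
      exact_mod_cast (hsupp m hm i)
    have hC : p = MvPolynomial.C (MvPolynomial.coeff 0 p) := by
      ext m
      rw [MvPolynomial.coeff_C]
      split_ifs with h
      · rw [h]
      · by_contra hh
        exact h (hsub m (MvPolynomial.mem_support_iff.2 hh)).symm
    refine hp.not_unit (hC ▸ (IsUnit.map MvPolynomial.C (isUnit_iff_ne_zero.2 fun h => hp.ne_zero ?_)))
    rw [hC, h, map_zero]
  · have : Fact ℓ.Prime := ⟨hℓ⟩
    choose root hroot using fun c : k => IsAlgClosed.exists_pow_nat_eq c hℓ.pos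
    let q : MvPolynomial (Fin 2) k :=
      ∑ m ∈ p.support, MvPolynomial.monomial (m.mapRange (· / ℓ) (Nat.zero_div _)) (root (MvPolynomial.coeff m p))
    have hq : q ^ ℓ = p := by
      rw [sum_pow_char ℓ]
      conv_rhs => rw [p.as_sum]
      refine Finset.sum_congr rfl fun m hm => ?_
      rw [MvPolynomial.monomial_pow, hroot]
      congr 2
      ext i
      rw [Finsupp.smul_apply, Finsupp.mapRange_apply, smul_eq_mul,
        Nat.mul_div_cancel' ((CharP.cast_eq_zero_iff k ℓ _).1 (hsupp m hm i))]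
    have hirr := hp.irreducible
    rw [← hq, ← Nat.sub_add_cancel hℓ.one_le, pow_succ] at hirr
    rcases hirr.isUnit_or_isUnit rfl with h | h
    · have h2 : 1 ≤ ℓ - 1 := by have := hℓ.two_le; omega
      have hqu : IsUnit q := (isUnit_pow_iff (by omega)).1 h
      exact hp.not_unit (hq ▸ hqu.pow ℓ)
    · exact hp.not_unit (hq ▸ h.pow ℓ)

/-- The partial derivative lowers the degree. -/
theorem pderiv_eq_zero_of_dvd {p : MvPolynomial (Fin 2) k} {i : Fin 2} (h : p ∣ MvPolynomial.pderiv i p) :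
    MvPolynomial.pderiv i p = 0 := by
  classical
  by_contra hne
  obtain ⟨c, hc⟩ := h
  have hp : p ≠ 0 := fun hp => hne (by rw [hp, map_zero])
  have hc0 : c ≠ 0 := fun h => hne (by rw [hc, h, mul_zero])
  have hdeg := congrArg MvPolynomial.totalDegree hc
  rw [MvPolynomial.totalDegree_mul_of_isDomain hp hc0] at hdeg
  obtain ⟨m, hm, hmax⟩ : ∃ m ∈ (MvPolynomial.pderiv i p).support,
      (MvPolynomial.pderiv i p).totalDegree = m.sum fun _ e => e := by
    obtain ⟨m, hm, h⟩ := Finset.exists_mem_eq_sup _ (MvPolynomial.support_nonempty.2 hne)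
      (fun s : Fin 2 →₀ ℕ => s.sum fun _ e => e)
    exact ⟨m, hm, h⟩
  rw [MvPolynomial.mem_support_iff, MvPolynomial.coeff_pderiv] at hm
  have hm' : m + single i 1 ∈ p.support := MvPolynomial.mem_support_iff.2 (left_ne_zero_of_mul hm)
  have := MvPolynomial.le_totalDegree hm'
  rw [Finsupp.sum_add_index' (fun _ => rfl) (fun _ _ _ => rfl), Finsupp.sum_single_index rfl] at this
  omega

/-- The inclusion of polynomials in power series. -/
noncomputable def toPS : MvPolynomial (Fin 2) k →+* MvPowerSeries (Fin 2) k :=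
  MvPolynomial.coeToMvPowerSeries.ringHom

lemma constantCoeff_toPS (p : MvPolynomial (Fin 2) k) :
    MvPowerSeries.constantCoeff (toPS p) = MvPolynomial.constantCoeff p := by
  rw [← MvPowerSeries.coeff_zero_eq_constantCoeff_apply]
  exact MvPolynomial.coeff_coe p 0

/-- A prime formal divisor of a polynomial comes from one prime polynomial. -/
theorem comap_span_eq {S : MvPowerSeries (Fin 2) k} (hS : Prime S) {F : MvPolynomial (Fin 2) k} (hF : F ≠ 0)
    (hSF : S ∣ toPS F) :
    ∃ π : MvPolynomial (Fin 2) k, Prime π ∧ Ideal.comap toPS (Ideal.span {S}) = Ideal.span {π} := by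
  classical
  set Q := Ideal.comap (toPS (k := k)) (Ideal.span {S})
  have hSp : (Ideal.span {S}).IsPrime := (Ideal.span_singleton_prime hS.ne_zero).2 hS
  have hQ : Q.IsPrime := Ideal.comap_isPrime _ _
  have hFQ : F ∈ Q := by rw [Ideal.mem_comap, Ideal.mem_span_singleton]; exact hSF
  obtain ⟨s, hs, hprod⟩ := UniqueFactorizationMonoid.exists_prime_factors F hF
  obtain ⟨π, hπs, hπQ⟩ : ∃ π ∈ s, π ∈ Q := by
    refine (hQ.multiset_prod_mem_iff_exists_mem s).1 ?_
    obtain ⟨u, hu⟩ := hprod
    rw [← hu] at hFQ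
    exact (hQ.mem_or_mem hFQ).resolve_right fun h => hQ.ne_top (Ideal.eq_top_of_isUnit_mem _ h u.isUnit)
  have hπ := hs π hπs
  refine ⟨π, hπ, le_antisymm ?_ ((Ideal.span_singleton_le_iff_mem _).2 hπQ)⟩
  by_contra hlt
  set m0 := RingHom.ker (MvPolynomial.constantCoeff (σ := Fin 2) (R := k))
  have hm0 : m0.IsPrime := RingHom.ker_isPrime _
  have hQle : Q ≤ m0 := fun z hz => by
    rw [Ideal.mem_comap, Ideal.mem_span_singleton] at hz
    rw [RingHom.mem_ker, ← constantCoeff_toPS]
    obtain ⟨c, hc⟩ := hz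
    have : ¬ IsUnit S := hS.not_unit
    rw [MvPowerSeries.isUnit_iff_constantCoeff, isUnit_iff_ne_zero, not_not] at this
    rw [hc, map_mul, this, zero_mul]
  have hne : Q ≠ m0 := by
    intro h
    have hx : ∀ i : Fin 2, S ∣ (MvPowerSeries.X i : MvPowerSeries (Fin 2) k) := fun i => by
      have : MvPolynomial.X i ∈ Q := h ▸ (RingHom.mem_ker.2 (by simp))
      rw [Ideal.mem_comap, Ideal.mem_span_singleton] at this
      simpa [toPS] using this
    have hSy := hS.irreducible.associated_of_dvd prime_X1.irreducible (hx 1)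
    have h01 : (MvPowerSeries.X 1 : MvPowerSeries (Fin 2) k) ∣ MvPowerSeries.X 0 := hSy.symm.dvd.trans (hx 0)
    rw [MvPowerSeries.X_dvd_iff] at h01
    have h2 := h01 (single 0 1) (by simp)
    rw [MvPowerSeries.coeff_X, if_pos rfl] at h2
    exact one_ne_zero h2
  have hbot : (⊥ : Ideal (MvPolynomial (Fin 2) k)).IsPrime := Ideal.isPrime_bot
  have hπp : (Ideal.span {π}).IsPrime := (Ideal.span_singleton_prime hπ.ne_zero).2 hπ
  let c : LTSeries (PrimeSpectrum (MvPolynomial (Fin 2) k)) :=
    ⟨3, ![⟨⊥, hbot⟩, ⟨Ideal.span {π}, hπp⟩, ⟨Q, hQ⟩, ⟨m0, hm0⟩], fun i => by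
      fin_cases i
      · show (⟨⊥, hbot⟩ : PrimeSpectrum (MvPolynomial (Fin 2) k)) < ⟨Ideal.span {π}, hπp⟩
        exact lt_of_le_of_ne bot_le fun h => hπ.ne_zero
          (Ideal.span_singleton_eq_bot.1 (congrArg PrimeSpectrum.asIdeal h).symm)
      · show (⟨Ideal.span {π}, hπp⟩ : PrimeSpectrum (MvPolynomial (Fin 2) k)) < ⟨Q, hQ⟩
        exact lt_of_le_of_ne (show Ideal.span {π} ≤ Q from (Ideal.span_singleton_le_iff_mem _).2 hπQ)
          fun h => hlt (congrArg PrimeSpectrum.asIdeal h).ge
      · show (⟨Q, hQ⟩ : PrimeSpectrum (MvPolynomial (Fin 2) k)) < ⟨m0, hm0⟩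
        exact lt_of_le_of_ne (show Q ≤ m0 from hQle) fun h => hne (congrArg PrimeSpectrum.asIdeal h)⟩
  have h3 : ((3 : ℕ) : WithBot ℕ∞) ≤ ringKrullDim (MvPolynomial (Fin 2) k) := Order.LTSeries.length_le_krullDim c
  rw [MvPolynomial.ringKrullDim_of_isNoetherianRing, ringKrullDim_eq_zero_of_field, zero_add, Nat.card_fin] at h3
  have h32 : (3 : ℕ) ≤ 2 := by exact_mod_cast h3
  omega

end ArSingLib
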