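import Groth.Agent.ArSingLib.Coord

/-! Linearisation of involutions of `k[[x,y]]/(y²-x^(r+1))`, `2 ≤ r`. -/

universe u

namespace ArSingLib

open MvPowerSeries Finsupp MorseLib

variable {k : Type u} [Field k] {r : ℕ}

lemma coeff_self (n : ℕ) (a : PowerSeries k) :
    PowerSeries.coeff n (PowerSeries.X ^ n * a) = PowerSeries.constantCoeff a := by
  have := PowerSeries.coeff_X_pow_mul a n 0
  rwa [Nat.zero_add, PowerSeries.coeff_zero_eq_constantCoeff_apply] at this

lemma coeff_low {i m : ℕ} (h : i < m) {f : PowerSeries k} (hf : PowerSeries.X ^ m ∣ f) :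
    PowerSeries.coeff i f = 0 := PowerSeries.X_pow_dvd_iff.1 hf i h

lemma coeff_mul_low {i m : ℕ} (h : i < m) (f : PowerSeries k) :
    PowerSeries.coeff i (f * PowerSeries.X ^ m) = 0 := coeff_low h (dvd_mul_left _ _)

lemma cp_one : cp (1 : ArSing.ring k r) = 1 := by
  rw [← map_one (ArSing.xMap k r), cp_xMap]

lemma cq_one : cq (1 : ArSing.ring k r) = 0 := by
  rw [← map_one (ArSing.xMap k r), cq_xMap]

/-- Components of powers. -/
lemma pow_dvd {u : ArSing.ring k r} (hu : e0 u = 0) : ∀ {n : ℕ}, n ≤ r + 1 →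
    PowerSeries.X ^ n ∣ cp (u ^ n) ∧ PowerSeries.X ^ (n - 1) ∣ cq (u ^ n) := by
  have hP : PowerSeries.X ∣ cp u := PowerSeries.X_dvd_iff.2 hu
  intro n
  induction n with
  | zero => intro _; simp
  | succ n ih =>
    intro hn
    obtain ⟨h1, h2⟩ := ih (by omega)
    rw [pow_succ u, cp_mul, cq_mul, Nat.add_sub_cancel]
    refine ⟨dvd_add (by rw [pow_succ]; exact mul_dvd_mul h1 hP)
      (dvd_mul_of_dvd_right (pow_dvd_pow _ hn) _), dvd_add (dvd_mul_of_dvd_left h1 _) ?_⟩
    rcases n with _ | n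
    · simp
    · rw [pow_succ]
      exact mul_dvd_mul (by simpa using h2) hP

lemma coeff_pow_self {u : ArSing.ring k r} (hu : e0 u = 0) : ∀ {n : ℕ}, n ≤ r →
    PowerSeries.coeff n (cp (u ^ n)) = e1 u ^ n := by
  obtain ⟨P', hP⟩ := PowerSeries.X_dvd_iff.2 (show PowerSeries.constantCoeff (cp u) = 0 from hu)
  have he1 : e1 u = PowerSeries.constantCoeff P' := by
    rw [e1, hP, PowerSeries.coeff_succ_X_mul, PowerSeries.coeff_zero_eq_constantCoeff_apply]
  intro n
  induction n with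
  | zero => intro _; simp [cp_one]
  | succ n ih =>
    intro hn
    obtain ⟨a, ha⟩ := (pow_dvd hu (n := n) (by omega)).1
    have h0 := ih (by omega)
    rw [ha, coeff_self] at h0
    rw [pow_succ u, cp_mul, map_add, coeff_mul_low (show n + 1 < r + 1 by omega), add_zero, ha, hP,
      show PowerSeries.X ^ n * a * (PowerSeries.X * P') = PowerSeries.X ^ (n + 1) * (a * P') by ring, coeff_self,
      map_mul, h0, pow_succ, he1]

lemma pow_high {u : ArSing.ring k r} (hr : 1 ≤ r) (hu : e0 u = 0) (w : ArSing.ring k r) :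
    PowerSeries.X ^ (r + 2) ∣ cp (u ^ (r + 2) * w) ∧ PowerSeries.X ^ (r + 1) ∣ cq (u ^ (r + 2) * w) := by
  have hP : PowerSeries.X ∣ cp u := PowerSeries.X_dvd_iff.2 hu
  obtain ⟨h1, h2⟩ := pow_dvd hu (n := r + 1) le_rfl
  rw [Nat.add_sub_cancel] at h2
  have h3 : PowerSeries.X ^ (r + 2) ∣ cp (u ^ (r + 2)) := by
    rw [pow_succ u (r + 1), cp_mul]
    refine dvd_add (by rw [pow_succ]; exact mul_dvd_mul h1 hP) ?_
    rw [show r + 2 = 1 + (r + 1) by omega, pow_add, pow_one]
    exact mul_dvd_mul (dvd_mul_of_dvd_left ((dvd_pow_self _ (by omega)).trans h2) _) dvd_rfl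
  have h4 : PowerSeries.X ^ (r + 1) ∣ cq (u ^ (r + 2)) := by
    rw [pow_succ u (r + 1), cq_mul]
    exact dvd_add (dvd_mul_of_dvd_left h1 _) (by rw [pow_succ]; exact mul_dvd_mul h2 hP)
  rw [cp_mul, cq_mul]
  refine ⟨dvd_add (dvd_mul_of_dvd_left h3 _) ?_,
    dvd_add (dvd_mul_of_dvd_left ((pow_dvd_pow _ (by omega)).trans h3) _) (dvd_mul_of_dvd_left h4 _)⟩
  rw [show r + 2 = 1 + (r + 1) by omega, pow_add, pow_one]
  refine mul_dvd_mul (dvd_mul_of_dvd_left ?_ _) dvd_rfl
  rw [show 1 + (r + 1) = r + 2 by omega]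
  exact (dvd_pow_self _ (by omega)).trans h4

lemma e0_hom {θ : PowerSeries k →ₐ[k] ArSing.ring k r} (h : e0 (θ PowerSeries.X) = 0) (p : PowerSeries k) :
    e0 (θ p) = PowerSeries.constantCoeff p := by
  obtain ⟨p', hp⟩ : PowerSeries.X ∣ p - algebraMap k (PowerSeries k) (PowerSeries.constantCoeff p) := by
    rw [PowerSeries.X_dvd_iff]; simp
  rw [show p = PowerSeries.X * p' + algebraMap k (PowerSeries k) (PowerSeries.constantCoeff p) by rw [← hp]; ring,
    map_add, map_mul, AlgHom.commutes, e0_add, e0_mul, h, e0_algebraMap]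
  simp

/-- `v² = γ(u)` forces `γ` to have order `r + 1`. -/
theorem order_lemma (hr : 1 ≤ r) (h2 : (2 : k) ≠ 0) (θ : PowerSeries k →ₐ[k] ArSing.ring k r)
    {u v : ArSing.ring k r} (hθ : θ PowerSeries.X = u) (hu : e0 u = 0) (hu1 : e1 u = 1) (hv : e0 v = 0)
    (hdet : e2 v - e2 u * e1 v ≠ 0) (γ : PowerSeries k) (h : v * v = θ γ) :
    ∃ e, PowerSeries.constantCoeff e ≠ 0 ∧ γ = PowerSeries.X ^ (r + 1) * e := by
  have he0 := e0_hom (θ := θ) (by rw [hθ]; exact hu)
  obtain ⟨p', hp⟩ := PowerSeries.X_dvd_iff.2 (show PowerSeries.constantCoeff (cp v) = 0 from hv)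
  have hev : e1 v = PowerSeries.constantCoeff p' := by
    rw [e1, hp, PowerSeries.coeff_succ_X_mul, PowerSeries.coeff_zero_eq_constantCoeff_apply]
  have hsq : cp v * cp v = PowerSeries.X ^ 2 * (p' * p') := by rw [hp]; ring
  by_cases hdiv : PowerSeries.X ^ (r + 2) ∣ γ
  · exfalso
    obtain ⟨g, rfl⟩ := hdiv
    obtain ⟨hA, hB⟩ := pow_high hr hu (θ g)
    rw [← hθ, ← map_pow, ← map_mul, ← h] at hA hB
    rw [cp_mul] at hA
    rw [cq_mul, mul_comm (cq v), ← two_mul] at hB
    by_cases hd : e2 v = 0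
    · have hc : e1 v ≠ 0 := fun hc => hdet (by rw [hd, hc]; ring)
      have := coeff_low (show 2 < r + 2 by omega) hA
      obtain ⟨q', hq⟩ := PowerSeries.X_dvd_iff.2 (show PowerSeries.constantCoeff (cq v) = 0 from hd)
      rw [map_add, hsq, coeff_self, map_mul, ← hev, hq,
        coeff_low (f := PowerSeries.X * q' * (PowerSeries.X * q') * PowerSeries.X ^ (r + 1))
          (show 2 < 2 + (r + 1) by omega) ⟨q' * q', by rw [pow_add]; ring⟩, add_zero] at this
      exact hc (mul_self_eq_zero.1 this)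
    · have hu2 : IsUnit (2 * cq v) := by
        rw [PowerSeries.isUnit_iff_constantCoeff, map_mul, map_ofNat]
        exact isUnit_iff_ne_zero.2 (mul_ne_zero h2 hd)
      have hp' : PowerSeries.X ^ (r + 1) ∣ cp v := by
        rwa [show 2 * (cp v * cq v) = cp v * (2 * cq v) by ring, hu2.dvd_mul_right] at hB
      have := coeff_low (show r + 1 < r + 2 by omega) hA
      have hpp : PowerSeries.X ^ (r + 1 + (r + 1)) ∣ cp v * cp v := by
        rw [pow_add]; exact mul_dvd_mul hp' hp'
      rw [map_add, coeff_low (show r + 1 < r + 1 + (r + 1) by omega) hpp,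
        zero_add, mul_comm _ (PowerSeries.X ^ (r + 1)), coeff_self, map_mul] at this
      exact hd (mul_self_eq_zero.1 this)
  have hex : ∃ n, PowerSeries.coeff n γ ≠ 0 := by
    by_contra hh
    push Not at hh
    exact hdiv (PowerSeries.X_pow_dvd_iff.2 fun m _ => hh m)
  classical
  let n := Nat.find hex
  obtain ⟨e, he⟩ : PowerSeries.X ^ n ∣ γ :=
    PowerSeries.X_pow_dvd_iff.2 fun m hm => not_not.1 (Nat.find_min hex hm)
  have hne : PowerSeries.constantCoeff e ≠ 0 := by
    rw [← coeff_self n e, ← he]; exact Nat.find_spec hex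
  have hn1 : n ≤ r + 1 := by
    by_contra hh
    exact hdiv ((pow_dvd_pow _ (by omega)).trans (Dvd.intro e he.symm))
  rcases eq_or_lt_of_le hn1 with hn | hn
  · exact ⟨e, hne, by rw [← hn]; exact he⟩
  exfalso
  have hnr : n ≤ r := by omega
  rw [he, map_mul, map_pow, hθ] at h
  obtain ⟨hA, hB⟩ := pow_dvd hu (n := n) hn1
  obtain ⟨A', hA'⟩ := hA
  have hA0 : PowerSeries.constantCoeff A' = 1 := by
    rw [← coeff_self n A', ← hA', coeff_pow_self hu hnr, hu1, one_pow]
  have h' := congrArg cp h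
  rw [cp_mul, cp_mul, hA'] at h'
  have h'' := congrArg cq h
  rw [cq_mul, cq_mul] at h''
  have hcoef : PowerSeries.coeff n (cp v * cp v) = PowerSeries.constantCoeff e := by
    have := congrArg (PowerSeries.coeff n) h'
    rw [map_add, map_add, coeff_mul_low hn, coeff_mul_low hn, add_zero, add_zero,
      mul_assoc (PowerSeries.X ^ n), coeff_self, map_mul PowerSeries.constantCoeff, hA0, one_mul] at this
    rw [this]
    exact he0 e
  rcases (show n ≤ 1 ∨ n = 2 ∨ 3 ≤ n by omega) with hn2 | hn2 | hn2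
  · rw [hsq, coeff_low (show n < 2 by omega) (dvd_mul_right _ _)] at hcoef
    exact hne hcoef.symm
  · rw [hn2, hsq, coeff_self, map_mul, ← hev] at hcoef
    have hq2 : PowerSeries.coeff 1 (cq (u * u)) = 2 * e2 u := by
      rw [cq_mul, map_add, PowerSeries.coeff_one_mul, PowerSeries.coeff_one_mul]
      rw [show PowerSeries.constantCoeff (cp u) = 0 from hu, show PowerSeries.coeff 1 (cp u) = 1 from hu1]
      simp only [e2]; ring
    have := congrArg (PowerSeries.coeff 1) h''
    rw [hn2] at this hA'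
    rw [hA', map_add, map_add, coeff_low (f := PowerSeries.X ^ 2 * A' * cq (θ e)) one_lt_two ⟨A' * cq (θ e), by ring⟩, zero_add, PowerSeries.coeff_one_mul,
      PowerSeries.coeff_one_mul, PowerSeries.coeff_one_mul,
      show PowerSeries.constantCoeff (cp v) = 0 from hv, show PowerSeries.coeff 1 (cp v) = e1 v from rfl] at this
    rw [pow_two u, hq2] at this
    have hQ0 : PowerSeries.constantCoeff (cq (u * u)) = 0 := by
      rw [cq_mul]; simp [show PowerSeries.constantCoeff (cp u) = 0 from hu]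
    rw [hQ0, show PowerSeries.constantCoeff (cp (θ e)) = PowerSeries.constantCoeff e from he0 e, ← hcoef] at this
    apply hdet
    have h5 : (2 * e1 v) * (e2 v - e2 u * e1 v) = 0 := by
      simp only [e2] at this ⊢
      linear_combination this
    exact (mul_eq_zero.1 h5).resolve_left (mul_ne_zero h2 fun hc => hne (by rw [← hcoef, hc, zero_mul]))
  · have hc : e1 v = 0 := by
      have := congrArg (PowerSeries.coeff 2) h'
      rw [map_add, map_add, hsq, coeff_self, map_mul, ← hev,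
        coeff_mul_low (show 2 < r + 1 by omega),
        coeff_mul_low (show 2 < r + 1 by omega),
        coeff_low (show 2 < n by omega) (dvd_mul_of_dvd_left (dvd_mul_right _ _) _), add_zero, add_zero] at this
      exact mul_self_eq_zero.1 this
    have hd : e2 v ≠ 0 := fun hd => hdet (by rw [hd, hc]; ring)
    have hu2 : IsUnit (2 * cq v) := by
      rw [PowerSeries.isUnit_iff_constantCoeff, map_mul, map_ofNat]
      exact isUnit_iff_ne_zero.2 (mul_ne_zero h2 hd)
    have hdiv' : PowerSeries.X ^ (n - 1) ∣ cp v * (2 * cq v) := by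
      rw [show cp v * (2 * cq v) = cp v * cq v + cq v * cp v by ring, h'', hA']
      exact dvd_add (dvd_mul_of_dvd_left (dvd_mul_of_dvd_left (pow_dvd_pow _ (by omega)) _) _)
        (dvd_mul_of_dvd_left hB _)
    rw [hu2.dvd_mul_right] at hdiv'
    have hpp : PowerSeries.X ^ ((n - 1) + (n - 1)) ∣ cp v * cp v := by
      rw [pow_add]; exact mul_dvd_mul hdiv' hdiv'
    rw [coeff_low (show n < (n - 1) + (n - 1) by omega) hpp] at hcoef
    exact hne hcoef.symm

/-- Linearisation of an involution. -/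
theorem linearise [IsAlgClosed k] (h2 : (2 : k) ≠ 0) (hr : 2 ≤ r)
    (σ : ArSing.ring k r ≃ₐ[k] ArSing.ring k r) (hσ : ∀ z, σ (σ z) = z) :
    ∃ (φ : ArSing.ring k r ≃ₐ[k] ArSing.ring k r) (a d : k), a * a = 1 ∧ d * d = 1 ∧ a ^ (r + 1) = 1 ∧
      φ.symm (σ (φ (ArSing.x k r))) = algebraMap k _ a * ArSing.x k r ∧
      φ.symm (σ (φ (ArSing.y k r))) = algebraMap k _ d * ArSing.y k r ∧
      (a = 1 → d = 1 → σ = AlgEquiv.refl) := by
  classical
  have hr1 : 1 ≤ r := by omega
  set x := ArSing.x k r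
  set y := ArSing.y k r
  set a := e1 (σ x) with ha_def
  set b := e2 (σ x)
  set c := e1 (σ y) with hc_def
  set d := e2 (σ y) with hd_def
  have hx0 : e0 (σ x) = 0 := by rw [e0_map, e_x.1]
  have hy0 : e0 (σ y) = 0 := by rw [e0_map, e_y.1]
  have hc : c = 0 := by
    have h := congrArg σ (y_sq (k := k) (r := r))
    rw [map_mul, map_pow] at h
    have h' := congrArg (fun z => PowerSeries.coeff 2 (cp z)) h
    rw [cp_mul, map_add, coeff_mul_low (show 2 < r + 1 by omega), add_zero,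
      coeff_low (show 2 < r + 1 by omega) (pow_dvd hx0 le_rfl).1] at h'
    obtain ⟨p', hp⟩ := PowerSeries.X_dvd_iff.2 (show PowerSeries.constantCoeff (cp (σ y)) = 0 from hy0)
    rw [hp, show PowerSeries.X * p' * (PowerSeries.X * p') = PowerSeries.X ^ 2 * (p' * p') by ring, coeff_self,
      map_mul, mul_self_eq_zero] at h'
    rw [hc_def, e1, hp, PowerSeries.coeff_succ_X_mul, PowerSeries.coeff_zero_eq_constantCoeff_apply, h']
  have ha : a * a = 1 := by
    have h := (e12_map hr1 σ hx0).1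
    rw [hσ, e_x.2.1, ← ha_def, ← hc_def, hc, mul_zero, add_zero] at h
    exact h.symm
  have hd : d * d = 1 := by
    have h := (e12_map hr1 σ hy0).2
    rw [hσ, e_y.2.2, ← hc_def, ← hd_def, hc, zero_mul, zero_add] at h
    exact h.symm
  let A : k →+* ArSing.ring k r := algebraMap k _
  have hA : ∀ c z, e0 (A c * z) = c * e0 z ∧ e1 (A c * z) = c * e1 z ∧ e2 (A c * z) = c * e2 z := fun c z => by
    simp only [A, e0_mul, e1_mul hr1, e2_mul, e0_algebraMap, e1_algebraMap, e2_algebraMap, zero_mul, add_zero,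
      and_self]
  have hσA : ∀ c, σ (A c) = A c := fun c => σ.commutes c
  set i2 : k := 2⁻¹
  have hi2 : i2 * 2 = 1 := inv_mul_cancel₀ h2
  have hAi : A i2 * 2 = 1 := by
    rw [← map_ofNat A 2, ← map_mul, hi2, map_one]
  obtain ⟨u, hu_def⟩ : ∃ u, u = A i2 * (x + A a * σ x) := ⟨_, rfl⟩
  obtain ⟨w, hw_def⟩ : ∃ w, w = A i2 * (y + A d * σ y) := ⟨_, rfl⟩
  have hu0 : e0 u = 0 := by simp only [hu_def, hA, e0_add, hx0, e_x.1, x, mul_zero, add_zero]
  have hu1 : e1 u = 1 := by
    rw [hu_def, (hA _ _).2.1, e1_add, (hA _ _).2.1, e_x.2.1, ← ha_def, ha, one_add_one_eq_two, hi2]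
  have hw0 : e0 w = 0 := by simp only [hw_def, hA, e0_add, hy0, e_y.1, y, mul_zero, add_zero]
  have hw1 : e1 w = 0 := by
    rw [hw_def, (hA _ _).2.1, e1_add, (hA _ _).2.1, e_y.2.1, ← hc_def, hc]; ring
  have hw2 : e2 w = 1 := by
    rw [hw_def, (hA _ _).2.2, e2_add, (hA _ _).2.2, e_y.2.2, ← hd_def, hd, one_add_one_eq_two, hi2]
  have hAa : A a * A a = 1 := by rw [← map_mul, ha, map_one]
  have hAd : A d * A d = 1 := by rw [← map_mul, hd, map_one]
  have hσu : σ u = A a * u := by
    simp only [hu_def, map_mul, map_add, hσA, hσ]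
    linear_combination (-(A i2) * σ x) * hAa
  have hσw : σ w = A d * w := by
    simp only [hw_def, map_mul, map_add, hσA, hσ]
    linear_combination (-(A i2) * σ y) * hAd
  have hdet : e1 u * e2 w - e2 u * e1 w ≠ 0 := by rw [hu1, hw1, hw2]; simp
  -- substitution
  have hbij := sub2_bijective hu0 hw0 hdet
  let ψ : MvPowerSeries (Fin 2) k →ₐ[k] ArSing.ring k r :=
    (Ideal.Quotient.mkₐ k _).comp (sub2 u w hu0 hw0)
  have hψX : ψ (X 0) = u ∧ ψ (X 1) = w := by
    constructor <;> simp only [ψ, sub2, AlgHom.comp_apply, Ev_X, Ideal.Quotient.mkₐ_eq_mk, mk_lift2,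
      Matrix.cons_val_zero, Matrix.cons_val_one]
  have hlin : ∀ f : MvPowerSeries (Fin 2) k, constantCoeff f = 0 →
      e1 (ψ f) = coeff (single 0 1) f ∧ e2 (ψ f) = coeff (single 0 1) f * e2 u + coeff (single 1 1) f := by
    intro f hf
    obtain ⟨g₀, g₁, hg, hg0, hg1⟩ : ∃ g₀ g₁, f = X 0 * g₀ + X 1 * g₁ ∧
        constantCoeff g₀ = coeff (single 0 1) f ∧ constantCoeff g₁ = coeff (single 1 1) f := by
      have h := eq_sum_X_mul hf
      rw [Fin.sum_univ_two] at h
      refine ⟨_, _, h, ?_, ?_⟩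
      · rw [← coeff_zero_eq_constantCoeff_apply]
        rw [coeff_apply, Dv, if_pos (fun j hj => absurd hj (by simp)), zero_add]
      · rw [← coeff_zero_eq_constantCoeff_apply]
        rw [coeff_apply, Dv, if_pos (fun j hj => by simp), zero_add]
    have he : ∀ z, e0 (ψ z) = constantCoeff z := by
      intro z
      obtain ⟨z0, hz0⟩ : ∃ z0, z - C (constantCoeff z) = z0 := ⟨_, rfl⟩
      have hz : constantCoeff z0 = 0 := by simp [← hz0]
      have h0 := eq_sum_X_mul hz
      rw [Fin.sum_univ_two] at h0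
      have hz' : z = z0 + algebraMap k _ (constantCoeff z) := by
        rw [← hz0, ← c_eq_algebraMap]; ring
      rw [hz', map_add, AlgHom.commutes, e0_add, e0_algebraMap, h0, map_add, map_mul, map_mul, hψX.1, hψX.2,
        e0_add, e0_mul, e0_mul, hu0, hw0]
      rw [map_add, ← c_eq_algebraMap, constantCoeff_C, map_add, map_mul, map_mul, constantCoeff_X, constantCoeff_X]
      ring
    rw [hg, map_add, map_mul, map_mul, hψX.1, hψX.2, e1_add, e2_add, e1_mul hr1, e1_mul hr1, e2_mul, e2_mul,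
      hu0, hw0, he, he, hu1, hw1, hw2, hg0, hg1, ← hg]
    constructor <;> ring
  obtain ⟨W0, hW0⟩ := hbij.2 (X 0)
  obtain ⟨W1, hW1⟩ := hbij.2 (X 1)
  have hψW : ψ W0 = x ∧ ψ W1 = y := by
    simp only [ψ, AlgHom.comp_apply, hW0, hW1]; exact ⟨rfl, rfl⟩
  have hWc : ∀ W (i : Fin 2), sub2 u w hu0 hw0 W = X i → constantCoeff W = 0 := by
    intro W i hW
    by_contra h
    have hu := ((isUnit_iff_constantCoeff (φ := W)).2 (isUnit_iff_ne_zero.2 h)).map (sub2 u w hu0 hw0)
    rw [hW, isUnit_iff_constantCoeff, constantCoeff_X] at hu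
    exact not_isUnit_zero hu
  have hW10 : coeff (single 0 1) W1 = 0 ∧ coeff (single 1 1) W1 = 1 := by
    obtain ⟨h3, h4⟩ := hlin W1 (hWc W1 1 hW1)
    rw [hψW.2, e_y.2.1] at h3
    rw [hψW.2, e_y.2.2, ← h3, zero_mul, zero_add] at h4
    exact ⟨h3.symm, h4.symm⟩
  obtain ⟨G, hG_def⟩ : ∃ G, G = W1 ^ 2 - W0 ^ (r + 1) := ⟨_, rfl⟩
  have hG : sub2 u w hu0 hw0 G = ArSing.eqn k r := by
    rw [hG_def, map_sub, map_pow, map_pow, hW0, hW1]; rfl
  have hW1m : W1 - X 1 ∈ Low (n := 2) (⊥ : Ideal k) 2 := by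
    have := sub_lin_mem (U := fun _ : Fin 2 => W1) (fun _ => mem_low_one.2 (hWc W1 1 hW1)) 0
    simpa only [lin, jac, Fin.sum_univ_two, hW10.1, hW10.2, map_zero, map_one, zero_mul, zero_add, one_mul] using this
  have hGm : G - X 1 ^ 2 ∈ Low (n := 2) (⊥ : Ideal k) 3 := by
    rw [hG_def, show W1 ^ 2 - W0 ^ (r + 1) - X 1 ^ 2 = X 1 * (W1 - X 1) + (W1 - X 1) * W1 - W0 ^ (r + 1) by ring]
    refine sub_mem (add_mem ?_ ?_) (Low_anti (show 3 ≤ r + 1 by omega) ?_)
    · exact mul_mem_Low (a := 1) (b := 2) (X_mem_Low 1) hW1m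
    · exact mul_mem_Low (a := 2) (b := 1) hW1m (mem_low_one.2 (hWc W1 1 hW1))
    · rw [low_eq_pow]
      exact Ideal.pow_mem_pow (by rw [maximalIdeal_eq, mem_low_one]; exact hWc W0 0 hW0) _
  have hGc : ∀ e : Fin 2 →₀ ℕ, e.degree < 3 → coeff e G = coeff e (X 1 ^ 2 : MvPowerSeries (Fin 2) k) :=
    fun e he => sub_eq_zero.1 (by rw [← map_sub]; exact mem_Low_bot.1 hGm e he)
  have g0 : constantCoeff G = 0 := by
    rw [← coeff_zero_eq_constantCoeff_apply, hGc 0 (by simp), coeff_zero_eq_constantCoeff_apply]; simp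
  have g1 : coeff (single 1 1) G = 0 := by
    rw [hGc _ (by simp), coeff_X_pow, if_neg]
    exact fun h => by simpa using DFunLike.congr_fun h 1
  have g2 : coeff (single 1 2) G ≠ 0 := by
    rw [hGc _ (by simp), coeff_X_pow, if_pos rfl]; exact one_ne_zero
  let θ : PowerSeries k →ₐ[k] ArSing.ring k r := ψ.comp ι
  have hθX : θ PowerSeries.X = u := by simp [θ, ι_X, hψX.1]
  have hker : ∀ p q, θ p + θ q * w = 0 → p = 0 ∧ q = 0 := by
    intro p q h
    have h' : ψ (ι p + ι q * X 1) = 0 := by rw [map_add, map_mul, hψX.2]; exact h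
    obtain ⟨g, hg⟩ := Ideal.mem_span_singleton'.1 (Ideal.Quotient.eq_zero_iff_mem.1 h')
    obtain ⟨g', rfl⟩ := hbij.2 g
    rw [← hG, ← map_mul] at hg
    exact div_unique g0 g1 g2 (hbij.1 hg).symm
  obtain ⟨α, β, h, hdiv⟩ := exists_div g0 g1 g2 (X 1 ^ 2)
  have hψG : ψ G = 0 := by
    simp only [ψ, AlgHom.comp_apply, hG]
    exact Ideal.Quotient.eq_zero_iff_mem.2 (Ideal.mem_span_singleton_self _)
  have hrel : w * w = θ α + θ β * w := by
    have := congrArg ψ hdiv
    rw [map_pow, map_add, map_add, map_mul, map_mul, hψX.2, hψG, mul_zero, add_zero, pow_two] at this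
    exact this
  have hβ0 : PowerSeries.constantCoeff β = 0 := by
    have := congrArg (coeff (single (1 : Fin 2) 1)) hdiv
    rw [coeff_X_pow, if_neg (fun h => by simpa using DFunLike.congr_fun h 1), map_add, map_add, coeff_ι,
      coeff_mul_X1, coeff_ι] at this
    have hh : coeff (single (1 : Fin 2) 1) (h * G) = 0 := by
      have : h * G ∈ Low (n := 2) (⊥ : Ideal k) 2 := by
        refine Ideal.mul_mem_left _ _ ?_
        rw [show G = (G - X 1 ^ 2) + X 1 * X 1 by ring]
        exact add_mem (Low_anti (by omega) hGm) (mul_mem_Low (a := 1) (b := 1) (X_mem_Low 1) (X_mem_Low 1))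
      exact mem_Low_bot.1 this _ (by simp)
    rw [hh] at this
    simpa using this.symm
  -- invariance
  let R : PowerSeries k →ₐ[k] PowerSeries k := PowerSeries.rescaleAlgHom a
  have hRX : R PowerSeries.X = algebraMap k _ a * PowerSeries.X := by
    simp only [R, rescaleAlgHom_apply, PowerSeries.rescale_X]; rfl
  have hσθ : ∀ p, σ (θ p) = θ (R p) := fun p =>
    AlgHom.congr_fun (ps_hom_ext (φ := (σ : ArSing.ring k r →ₐ[k] ArSing.ring k r).comp θ) (ψ := θ.comp R)
      (by rw [mem_max_iff]; simp [hθX, e0_map, hu0]) (by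
        simp only [AlgHom.comp_apply, AlgEquiv.coe_toAlgHom, hθX, hσu, hRX, map_mul, AlgHom.commutes]; rfl)) p
  have hRinv : R α = α ∧ algebraMap k _ d * R β = β := by
    have h1 := congrArg σ hrel
    rw [map_add, map_mul, map_mul, hσθ, hσθ, hσw] at h1
    obtain ⟨h3, h4⟩ := hker (R α - α) (algebraMap k _ d * R β - β) (by
      simp only [map_sub, map_mul, AlgHom.commutes]
      linear_combination -h1 + hrel + (w * w) * hAd)
    exact ⟨sub_eq_zero.1 h3, sub_eq_zero.1 h4⟩
  have hRβ : R β = algebraMap k _ d * β := by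
    conv_rhs => rw [← hRinv.2]
    rw [← mul_assoc, ← map_mul, hd, map_one, one_mul]
  obtain ⟨v, hv_def⟩ : ∃ v, v = w - A i2 * θ β := ⟨_, rfl⟩
  let γ : PowerSeries k := α + algebraMap k _ (i2 * i2) * (β * β)
  have hv2 : v * v = θ γ := by
    simp only [γ, hv_def, map_add, map_mul, AlgHom.commutes]
    show _ = _ + A i2 * A i2 * _
    linear_combination hrel - (θ β * w) * hAi
  have hσv : σ v = A d * v := by
    simp only [hv_def, map_sub, map_mul, hσA, hσw, hσθ, hRβ, AlgHom.commutes]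
    show _ - _ * (A d * _) = _
    ring
  have hRγ : R γ = γ := by
    simp only [γ, map_add, map_mul, AlgHom.commutes, hRinv.1, hRβ]
    have : algebraMap k (PowerSeries k) d * algebraMap k _ d = 1 := by rw [← map_mul, hd, map_one]
    linear_combination (algebraMap k (PowerSeries k) i2 * algebraMap k (PowerSeries k) i2 * β * β) * this
  have hθ0 : e0 (θ PowerSeries.X) = 0 := by rw [hθX, hu0]
  obtain ⟨β', hβ'⟩ := PowerSeries.X_dvd_iff.2 hβ0
  have hθβ : e1 (θ β) = PowerSeries.constantCoeff β' ∧ e2 (θ β) = PowerSeries.constantCoeff β' * e2 u := by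
    rw [hβ', map_mul, hθX, e1_mul hr1, e2_mul, hu0, hu1, e0_hom hθ0]
    constructor <;> ring
  have hv0 : e0 v = 0 := by
    rw [hv_def, e0_sub, (hA _ _).1, e0_hom hθ0, hβ0, hw0]; ring
  have hv12 : e2 v - e2 u * e1 v = 1 := by
    rw [hv_def, e1_sub, e2_sub, (hA _ _).2.1, (hA _ _).2.2, hθβ.1, hθβ.2, hw1, hw2]; ring
  obtain ⟨e, he0', hγ⟩ := order_lemma hr1 h2 θ hθX hu0 hu1 hv0 (by rw [hv12]; exact one_ne_zero) γ hv2
  have hRe : algebraMap k _ (a ^ (r + 1)) * R e = e := by
    have := hRγ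
    rw [hγ, map_mul, map_pow, hRX, mul_pow, ← map_pow, mul_comm (algebraMap k _ (a ^ (r + 1))), mul_assoc] at this
    exact mul_left_cancel₀ (pow_ne_zero _ PowerSeries.X_ne_zero) this
  have hcR : ∀ p, PowerSeries.constantCoeff (R p) = PowerSeries.constantCoeff p := fun p => by
    simp only [R, rescaleAlgHom_apply]
    rw [← PowerSeries.coeff_zero_eq_constantCoeff_apply, PowerSeries.coeff_rescale, pow_zero, one_mul,
      PowerSeries.coeff_zero_eq_constantCoeff_apply]
  have har : a ^ (r + 1) = 1 := by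
    have := congrArg PowerSeries.constantCoeff hRe
    rw [map_mul, hcR] at this
    exact mul_right_cancel₀ he0' (by rw [one_mul]; exact this)
  rw [har, map_one, one_mul] at hRe
  obtain ⟨f, hf⟩ := exists_sqrt h2 he0'
  have hf0 : PowerSeries.constantCoeff f ≠ 0 := fun h => he0' (by rw [← hf, map_mul, h, mul_zero])
  obtain ⟨fi, hfi⟩ := (PowerSeries.isUnit_iff_constantCoeff.2 (isUnit_iff_ne_zero.2 hf0)).exists_right_inv
  have hRf : R f = f := by
    have h1 : (R f - f) * (R f + f) = 0 := by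
      have := hRe
      rw [← hf, map_mul] at this
      linear_combination this
    refine sub_eq_zero.1 ((mul_eq_zero.1 h1).resolve_right fun h => ?_)
    have := congrArg PowerSeries.constantCoeff h
    rw [map_add, hcR, map_zero, ← two_mul] at this
    exact mul_ne_zero h2 hf0 this
  have hRfi : R fi = fi := by
    have := congrArg R hfi
    rw [map_mul, hRf, map_one] at this
    linear_combination (-(R fi)) * hfi + fi * this
  obtain ⟨V, hV_def⟩ : ∃ V, V = v * θ fi := ⟨_, rfl⟩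
  have hσV : σ V = A d * V := by rw [hV_def, map_mul, hσv, hσθ, hRfi]; ring
  have hV2 : V * V = u ^ (r + 1) := by
    have h1 : V * V = θ (γ * (fi * fi)) := by rw [map_mul, map_mul, ← hv2, hV_def]; ring
    rw [h1, hγ, ← hf, show PowerSeries.X ^ (r + 1) * (f * f) * (fi * fi) = PowerSeries.X ^ (r + 1) * ((f * fi) * (f * fi)) by ring,
      hfi, one_mul, mul_one, map_pow, hθX]
  have hfi0 : PowerSeries.constantCoeff fi ≠ 0 := fun h => by
    have := congrArg PowerSeries.constantCoeff hfi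
    rw [map_mul, h, mul_zero, map_one] at this
    exact zero_ne_one this
  obtain ⟨φ, hφx, hφy⟩ := exists_aut (u := u) (v := V) hu0 (by rw [hV_def, e0_mul, hv0, zero_mul]) (by
    rw [hV_def, e1_mul hr1, e2_mul, hv0, e0_hom hθ0, hu1]
    intro h
    refine mul_ne_zero hfi0 (one_ne_zero (α := k)) ?_
    linear_combination h - PowerSeries.constantCoeff fi * hv12) hV2
  refine ⟨φ, a, d, ha, hd, har, ?_, ?_, fun ha1 hd1 => ?_⟩
  · rw [hφx, hσu, ← hφx, map_mul, AlgEquiv.symm_apply_apply]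
    exact congrArg (· * x) (φ.symm.commutes a)
  · rw [hφy, hσV, ← hφy, map_mul, AlgEquiv.symm_apply_apply]
    exact congrArg (· * y) (φ.symm.commutes d)
  · have h1 : (σ : ArSing.ring k r →ₐ[k] ArSing.ring k r).comp (φ : ArSing.ring k r →ₐ[k] ArSing.ring k r) = φ := by
      refine hom_ext ?_ ?_ ?_ ?_
      · rw [mem_max_iff]; simp [e0_map, x, e_x.1]
      · rw [mem_max_iff]; simp [e0_map, y, e_y.1]
      · show σ (φ x) = φ x
        rw [hφx, hσu, ha1, map_one, one_mul]
      · show σ (φ y) = φ y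
        rw [hφy, hσV, hd1, map_one, one_mul]
    ext z
    obtain ⟨z, rfl⟩ := φ.surjective z
    exact AlgHom.congr_fun h1 z

end ArSingLib
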