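import Groth.Agent.MorseLib.Morse

/-! Substitutions of power series over a field and maps of their quotients. -/

universe u v

namespace ArSingLib

open MvPowerSeries MorseLib Finsupp

variable {k : Type u} [Field k] {n : ℕ}

lemma mem_low_one {f : MvPowerSeries (Fin n) k} : f ∈ Low (n := n) (⊥ : Ideal k) 1 ↔ constantCoeff f = 0 := by
  rw [mem_Low_bot, ← coeff_zero_eq_constantCoeff]
  refine ⟨fun h => h 0 (by simp), fun h e he => ?_⟩
  rw [(Finsupp.degree_eq_zero_iff e).1 (by omega)]
  exact h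

lemma maximalIdeal_eq : IsLocalRing.maximalIdeal (MvPowerSeries (Fin n) k) = Low (n := n) (⊥ : Ideal k) 1 := by
  ext f
  rw [IsLocalRing.mem_maximalIdeal, mem_nonunits_iff, isUnit_iff_constantCoeff, isUnit_iff_ne_zero,
    not_not, mem_low_one]

/-- The series divisible first by `X k`, divided by it. -/
noncomputable def Dv (i : Fin n) (f : MvPowerSeries (Fin n) k) : MvPowerSeries (Fin n) k :=
  fun e => if ∀ j < i, e j = 0 then coeff (e + single i 1) f else 0

lemma eq_sum_X_mul {f : MvPowerSeries (Fin n) k} (hf : constantCoeff f = 0) :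
    f = ∑ i, X i * Dv i f := by
  classical
  ext e
  rw [map_sum]
  have hterm : ∀ i, coeff e (X i * Dv i f) = if e i ≠ 0 ∧ ∀ j < i, e j = 0 then coeff e f else 0 := by
    intro i
    rw [X_def, coeff_monomial_mul, one_mul]
    show (if _ then (if _ then _ else _) else _) = _
    by_cases hi : e i = 0
    · rw [if_neg, if_neg (fun h => h.1 hi)]
      intro h
      have := h i
      simp [hi] at this
    · have hle : single i 1 ≤ e := by simpa using Nat.one_le_iff_ne_zero.2 hi
      rw [if_pos hle, tsub_add_cancel_of_le hle]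
      refine if_congr ⟨fun h => ⟨hi, fun j hj => ?_⟩, fun h j hj => ?_⟩ rfl rfl
      · have := h j hj
        rwa [Finsupp.tsub_apply, Finsupp.single_eq_of_ne hj.ne, tsub_zero] at this
      · rw [Finsupp.tsub_apply, Finsupp.single_eq_of_ne hj.ne, tsub_zero, h.2 j hj]
  simp only [hterm]
  by_cases he : e = 0
  · subst he; simp [hf]
  · obtain ⟨j, hj⟩ := Finsupp.support_nonempty_iff.2 he
    let i₀ := e.support.min' ⟨j, hj⟩
    have hi₀ : e i₀ ≠ 0 := Finsupp.mem_support_iff.1 (Finset.min'_mem _ _)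
    have hmin : ∀ i < i₀, e i = 0 := fun i hi => Finsupp.notMem_support_iff.1 fun h =>
      absurd (Finset.min'_le _ i h) (not_le.2 hi)
    rw [Finset.sum_eq_single i₀, if_pos ⟨hi₀, hmin⟩]
    · intro i _ hik
      refine if_neg fun h => ?_
      rcases lt_or_gt_of_ne hik with hlt | hlt
      · exact h.1 (hmin i hlt)
      · exact hi₀ (h.2 i₀ hlt)
    · simp

lemma low_eq_pow (N : ℕ) : Low (n := n) (⊥ : Ideal k) N = IsLocalRing.maximalIdeal (MvPowerSeries (Fin n) k) ^ N := by
  apply le_antisymm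
  · induction N with
    | zero => rw [pow_zero, Ideal.one_eq_top]; exact le_top
    | succ N ih =>
      intro f hf
      rw [eq_sum_X_mul (mem_low_one.1 (Low_anti (by omega) hf)), pow_succ']
      refine Submodule.sum_mem _ fun i _ => Ideal.mul_mem_mul ?_ (ih ?_)
      · rw [maximalIdeal_eq]; exact X_mem_Low i
      · refine mem_Low_bot.2 fun e he => ?_
        show (if _ then _ else _) = (0 : k)
        split_ifs
        · exact mem_Low_bot.1 hf _ (by rw [map_add, Finsupp.degree_single]; omega)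
        · rfl
  · induction N with
    | zero => rw [Low_zero]; exact le_top
    | succ N ih =>
      rw [pow_succ]
      exact Ideal.mul_le.2 fun a ha b hb => mul_mem_Low (ih ha) (maximalIdeal_eq.le hb)

/-- Linear coefficients. -/
noncomputable def jac (U : Fin n → MvPowerSeries (Fin n) k) : Matrix (Fin n) (Fin n) k :=
  fun i j => coeff (single j 1) (U i)

/-- The linear substitution of a matrix. -/
noncomputable def lin (A : Matrix (Fin n) (Fin n) k) : Fin n → MvPowerSeries (Fin n) k :=
  fun i => ∑ j, C (A i j) * X j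

lemma lin_mem (A : Matrix (Fin n) (Fin n) k) (i : Fin n) : lin A i ∈ Low (n := n) (⊥ : Ideal k) 1 :=
  Submodule.sum_mem _ fun j _ => Ideal.mul_mem_left _ _ (X_mem_Low j)

lemma coeff_single_lin (A : Matrix (Fin n) (Fin n) k) (i j : Fin n) :
    coeff (single j 1) (lin A i) = A i j := by
  classical
  simp [lin, map_sum, coeff_C_mul, coeff_X, Finsupp.single_left_inj]

lemma sub_lin_mem {U : Fin n → MvPowerSeries (Fin n) k} (hU : ∀ i, U i ∈ Low (n := n) (⊥ : Ideal k) 1) (i : Fin n) :
    U i - lin (jac U) i ∈ Low (n := n) (⊥ : Ideal k) 2 := by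
  refine mem_Low_bot.2 fun e he => ?_
  rw [map_sub]
  rcases Nat.eq_zero_or_pos e.degree with h | h
  · rw [(Finsupp.degree_eq_zero_iff e).1 h, mem_Low_bot.1 (hU i) 0 (by simp),
      mem_Low_bot.1 (lin_mem _ i) 0 (by simp), sub_zero]
  · obtain ⟨j, rfl⟩ : ∃ j, e = single j 1 := by
      obtain ⟨j, hj⟩ := Finsupp.support_nonempty_iff.2
        (fun h0 : e = 0 => by simp [h0] at h)
      have hle : single j 1 ≤ e := by
        simpa using Nat.one_le_iff_ne_zero.2 (Finsupp.mem_support_iff.1 hj)
      refine ⟨j, le_antisymm ?_ hle⟩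
      have hd : (e - single j 1).degree + 1 = e.degree := by
        conv_rhs => rw [← tsub_add_cancel_of_le hle, map_add, Finsupp.degree_single]
      have := (Finsupp.degree_eq_zero_iff (e - single j 1)).1 (by omega)
      exact tsub_eq_zero_iff_le.1 this
    rw [coeff_single_lin]
    simp [jac]

variable (U : Fin n → MvPowerSeries (Fin n) k) (hU : ∀ i, U i ∈ Low (n := n) (⊥ : Ideal k) 1)

lemma Ev_lin (A B : Matrix (Fin n) (Fin n) k) :
    (Ev (lin B) (lin_mem B)).comp (Ev (lin A) (lin_mem A)) = Ev (lin (A * B)) (lin_mem _) := by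
  rw [Ev_comp]
  refine (eq_Ev _ _ (φ := Ev (lin (A * B)) (lin_mem (A * B))) (fun _ _ hf => Ev_mem _ _ hf)
    (fun i => ?_)).symm
  rw [Ev_X]
  simp only [lin, map_sum, map_mul, c_eq_algebraMap, AlgHom.commutes, Ev_X, Finset.mul_sum]
  rw [Finset.sum_comm]
  simp [Matrix.mul_apply, map_sum, map_mul, Finset.sum_mul, mul_assoc]

lemma Ev_lin_one : Ev (lin (1 : Matrix (Fin n) (Fin n) k)) (lin_mem _) = AlgHom.id k _ :=
  (eq_Ev _ _ (φ := AlgHom.id k _) (fun _ _ hf => hf) fun i => by
    simp [lin, Matrix.one_apply]).symm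

include hU in
/-- Formal inverse function theorem. -/
theorem Ev_bijective (hdet : IsUnit (jac U).det) : Function.Bijective (Ev U hU) := by
  set M := jac U
  have h1 := Ev_lin M⁻¹ M
  have h2 := Ev_lin M M⁻¹
  rw [Matrix.nonsing_inv_mul _ hdet, Ev_lin_one] at h1
  rw [Matrix.mul_nonsing_inv _ hdet, Ev_lin_one] at h2
  let ε : Fin n → MvPowerSeries (Fin n) k := fun i => Ev (lin M⁻¹) (lin_mem _) (U i - lin M i)
  have hε : ∀ i, ε i ∈ Low (n := n) (⊥ : Ideal k) 2 := fun i => Ev_mem _ _ (sub_lin_mem hU i)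
  obtain ⟨η, hη, -, h3, h4⟩ := exists_inverse le_rfl ε hε
  have hcomp : (Ev (lin M⁻¹) (lin_mem _)).comp (Ev U hU) =
      Ev (fun i => X i + ε i) (fun i => add_mem (X_mem_Low i) (Low_anti (by omega) (hε i))) := by
    rw [Ev_comp]
    refine (eq_Ev _ _ (φ := Ev (fun i => X i + ε i)
      (fun i => add_mem (X_mem_Low i) (Low_anti (by omega) (hε i))))
      (fun _ _ hf => Ev_mem _ _ hf) fun i => ?_).symm
    rw [Ev_X]
    have h := AlgHom.congr_fun h2 (X i)
    rw [AlgHom.comp_apply, Ev_X, AlgHom.id_apply] at h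
    rw [show ε i = Ev (lin M⁻¹) (lin_mem _) (U i) - Ev (lin M⁻¹) (lin_mem _) (lin M i) from map_sub _ _ _, h,
      add_sub_cancel]
  have hbij : Function.Bijective (Ev (fun i => X i + ε i)
      (fun i => add_mem (X_mem_Low i) (Low_anti (by omega) (hε i)))) :=
    (AlgEquiv.ofAlgHom _ _ h4 h3).bijective
  rw [← hcomp, AlgHom.coe_comp] at hbij
  have hl : Function.Bijective (Ev (lin M⁻¹) (lin_mem (k := k) _)) := (AlgEquiv.ofAlgHom _ _ h2 h1).bijective
  exact (Function.Bijective.of_comp_iff' hl _).1 hbij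

section Quot

variable {m : ℕ} (I : Ideal (MvPowerSeries (Fin m) k))

/-- An algebra map out of a power series ring sends the variables into the maximal ideal. -/
lemma map_mem_maximal (hI : I ≠ ⊤) (φ : MvPowerSeries (Fin n) k →ₐ[k] MvPowerSeries (Fin m) k ⧸ I)
    {f : MvPowerSeries (Fin n) k} (hf : constantCoeff f = 0) {g : MvPowerSeries (Fin m) k}
    (hg : φ f = Ideal.Quotient.mk I g) : constantCoeff g = 0 := by
  by_contra h
  set c := constantCoeff g
  have hu : IsUnit (f - C c) := isUnit_iff_constantCoeff.2 (by simpa [hf] using h)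
  have h2 := hu.map φ
  rw [map_sub, hg, c_eq_algebraMap, AlgHom.commutes,
    show algebraMap k (MvPowerSeries (Fin m) k ⧸ I) c = Ideal.Quotient.mk I (C c) from rfl, ← map_sub] at h2
  have hle : I ≤ IsLocalRing.maximalIdeal _ := IsLocalRing.le_maximalIdeal hI
  obtain ⟨v, hv⟩ := h2.exists_right_inv
  obtain ⟨v, rfl⟩ := Ideal.Quotient.mk_surjective v
  rw [← map_mul, ← map_one (Ideal.Quotient.mk I), Ideal.Quotient.eq] at hv
  have := hle hv
  rw [maximalIdeal_eq, mem_low_one] at this
  simp [c] at this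

variable {I}

/-- Algebra maps out of a power series ring are determined by the images of the variables. -/
theorem algHom_ext {φ ψ : MvPowerSeries (Fin n) k →ₐ[k] MvPowerSeries (Fin m) k ⧸ I}
    (h : ∀ i, φ (X i) = ψ (X i)) : φ = ψ := by
  by_cases hI : I = ⊤
  · have : Subsingleton (MvPowerSeries (Fin m) k ⧸ I) := Ideal.Quotient.subsingleton_iff.2 hI
    exact AlgHom.ext fun _ => Subsingleton.elim _ _
  have hlocal : IsLocalRing (MvPowerSeries (Fin m) k ⧸ I) := by
    have := Ideal.Quotient.nontrivial_iff.2 hI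
    exact IsLocalRing.of_surjective' (Ideal.Quotient.mk I) Ideal.Quotient.mk_surjective
  have hmax : ∀ χ : MvPowerSeries (Fin n) k →ₐ[k] MvPowerSeries (Fin m) k ⧸ I,
      ∀ N, ∀ f ∈ Low (n := n) (⊥ : Ideal k) N, χ f ∈ IsLocalRing.maximalIdeal (MvPowerSeries (Fin m) k ⧸ I) ^ N := by
    intro χ N f hf
    rw [low_eq_pow] at hf
    have := Ideal.mem_map_of_mem χ hf
    rw [Ideal.map_pow] at this
    refine Ideal.pow_right_mono ?_ N this
    rw [Ideal.map_le_iff_le_comap]
    intro g hg
    rw [maximalIdeal_eq, mem_low_one] at hg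
    rw [Ideal.mem_comap, IsLocalRing.mem_maximalIdeal, mem_nonunits_iff]
    obtain ⟨g', hg'⟩ := Ideal.Quotient.mk_surjective (χ g)
    have h0 := map_mem_maximal I hI χ hg hg'.symm
    rw [← hg']
    intro hu
    obtain ⟨v, hv⟩ := hu.exists_right_inv
    obtain ⟨v, rfl⟩ := Ideal.Quotient.mk_surjective v
    rw [← map_mul, ← map_one (Ideal.Quotient.mk I), Ideal.Quotient.eq] at hv
    have := IsLocalRing.le_maximalIdeal hI hv
    rw [maximalIdeal_eq, mem_low_one] at this
    simp [h0] at this
  refine AlgHom.ext fun f => sub_eq_zero.1 ?_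
  rw [← Ideal.mem_bot, ← Ideal.iInf_pow_eq_bot_of_isLocalRing
    (IsLocalRing.maximalIdeal (MvPowerSeries (Fin m) k ⧸ I)) (IsLocalRing.maximalIdeal.isMaximal _).ne_top,
    Submodule.mem_iInf]
  intro N
  have hp : ∀ p : MvPolynomial (Fin n) k, φ p = ψ p := by
    intro p
    have : φ.comp (MvPolynomial.coeToMvPowerSeries.algHom k) =
        ψ.comp (MvPolynomial.coeToMvPowerSeries.algHom k) := MvPolynomial.algHom_ext fun i => by simpa using h i
    simpa [MvPolynomial.coeToMvPowerSeries.algHom_apply] using AlgHom.congr_fun this p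
  have e1 := hmax φ N _ (sub_truncTotal_mem f N)
  have e2 := hmax ψ N _ (sub_truncTotal_mem f N)
  rw [map_sub, hp] at e1
  rw [map_sub] at e2
  simpa using sub_mem e1 e2

lemma exists_lift {I' : Ideal (MvPowerSeries (Fin n) k)} (φ : MvPowerSeries (Fin n) k →ₐ[k] MvPowerSeries (Fin n) k ⧸ I')
    (hI' : I' ≠ ⊤) :
    ∃ (U : Fin n → MvPowerSeries (Fin n) k) (hU : ∀ i, U i ∈ Low (n := n) (⊥ : Ideal k) 1),
      φ = (Ideal.Quotient.mkₐ k I').comp (Ev U hU) := by
  choose U hU using fun i => Ideal.Quotient.mk_surjective (φ (X i))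
  have h0 : ∀ i, U i ∈ Low (n := n) (⊥ : Ideal k) 1 := fun i =>
    mem_low_one.2 (map_mem_maximal I' hI' φ (constantCoeff_X i) (hU i).symm)
  exact ⟨U, h0, algHom_ext fun i => by simp [Ev_X, hU]⟩

end Quot

/-- A surjective endomorphism of a Noetherian ring is injective. -/
theorem injective_of_surjective {A : Type v} [CommRing A] [IsNoetherianRing A] (f : A →+* A)
    (hf : Function.Surjective f) : Function.Injective f := by
  let c : ℕ →o Ideal A :=
    { toFun := fun i => RingHom.ker (f ^ i)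
      monotone' := monotone_nat_of_le_succ fun i x hx => by
        rw [RingHom.mem_ker] at hx ⊢
        rw [pow_succ', RingHom.mul_def, RingHom.comp_apply, hx, map_zero] }
  obtain ⟨N, hN⟩ := monotone_stabilizes_iff_noetherian.2 inferInstance c
  rw [injective_iff_map_eq_zero]
  intro x hx
  have hs : Function.Surjective (f ^ N : A →+* A) := by
    rw [RingHom.coe_pow]; exact hf.iterate N
  obtain ⟨y, rfl⟩ := hs x
  have : y ∈ c (N + 1) := by
    show (f ^ (N + 1)) y = 0
    rw [pow_succ', RingHom.mul_def, RingHom.comp_apply, hx]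
  rw [← hN (N + 1) (by omega)] at this
  exact this

end ArSingLib
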