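import Groth.Agent.ArSingLib.Div
import Groth.Prelude.Def_W4c1arstab1appArSing

/-! Normal forms in the algebra of an `A_r`-singularity. -/

universe u v

namespace ArSingLib

open MvPowerSeries Finsupp MorseLib

variable {k : Type u} [Field k] {r : ℕ}

section Ext

variable {B : Type v} [CommRing B] [IsLocalRing B] [IsNoetherianRing B] [Algebra k B]

/-- Maps out of `k[[t]]` are determined by the image of the variable. -/
theorem ps_hom_ext {φ ψ : PowerSeries k →ₐ[k] B}
    (hφ : φ PowerSeries.X ∈ IsLocalRing.maximalIdeal B) (h : φ PowerSeries.X = ψ PowerSeries.X) : φ = ψ := by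
  refine AlgHom.ext fun f => sub_eq_zero.1 ?_
  rw [← Ideal.mem_bot, ← Ideal.iInf_pow_eq_bot_of_isLocalRing
    (IsLocalRing.maximalIdeal B) (IsLocalRing.maximalIdeal.isMaximal _).ne_top, Submodule.mem_iInf]
  intro N
  obtain ⟨g, hg⟩ : (PowerSeries.X : PowerSeries k) ^ N ∣ f - (PowerSeries.trunc N f : Polynomial k) := by
    rw [PowerSeries.X_pow_dvd_iff]
    intro m hm
    simp [PowerSeries.coeff_trunc, hm]
  have hp : φ (PowerSeries.trunc N f : Polynomial k) = ψ (PowerSeries.trunc N f : Polynomial k) := by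
    have : φ.comp (Polynomial.coeToPowerSeries.algHom k) = ψ.comp (Polynomial.coeToPowerSeries.algHom k) :=
      Polynomial.algHom_ext (by simpa using h)
    simpa using AlgHom.congr_fun this (PowerSeries.trunc N f)
  rw [show f = PowerSeries.X ^ N * g + ((PowerSeries.trunc N f : Polynomial k) : PowerSeries k) by
      rw [← hg, sub_add_cancel],
    map_add, map_add, hp, add_sub_add_right_eq_sub, map_mul, map_mul, map_pow, map_pow, ← h, ← mul_sub]
  exact Ideal.mul_mem_right _ _ (Ideal.pow_mem_pow hφ N)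

/-- Maps out of `k[[x, y]]` are determined by the images of the variables. -/
theorem mv_hom_ext {φ ψ : MvPowerSeries (Fin 2) k →ₐ[k] B}
    (hφ : ∀ i, φ (X i) ∈ IsLocalRing.maximalIdeal B) (h : ∀ i, φ (X i) = ψ (X i)) : φ = ψ := by
  refine AlgHom.ext fun f => sub_eq_zero.1 ?_
  rw [← Ideal.mem_bot, ← Ideal.iInf_pow_eq_bot_of_isLocalRing
    (IsLocalRing.maximalIdeal B) (IsLocalRing.maximalIdeal.isMaximal _).ne_top, Submodule.mem_iInf]
  intro N
  have hmax : ∀ χ : MvPowerSeries (Fin 2) k →ₐ[k] B, (∀ i, χ (X i) ∈ IsLocalRing.maximalIdeal B) →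
      ∀ g ∈ Low (n := 2) (⊥ : Ideal k) N, χ g ∈ IsLocalRing.maximalIdeal B ^ N := by
    intro χ hχ g hg
    rw [low_eq_pow] at hg
    have := Ideal.mem_map_of_mem χ hg
    rw [Ideal.map_pow] at this
    refine Ideal.pow_right_mono ?_ N this
    rw [Ideal.map_le_iff_le_comap]
    intro z hz
    rw [maximalIdeal_eq, mem_low_one] at hz
    rw [Ideal.mem_comap, eq_sum_X_mul hz, map_sum]
    exact Submodule.sum_mem _ fun i _ => by rw [map_mul]; exact Ideal.mul_mem_right _ _ (hχ i)
  have hp : ∀ p : MvPolynomial (Fin 2) k, φ p = ψ p := fun p => by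
    have : φ.comp (MvPolynomial.coeToMvPowerSeries.algHom k) =
        ψ.comp (MvPolynomial.coeToMvPowerSeries.algHom k) := MvPolynomial.algHom_ext fun i => by simpa using h i
    simpa [MvPolynomial.coeToMvPowerSeries.algHom_apply] using AlgHom.congr_fun this p
  have e1 := hmax φ hφ _ (sub_truncTotal_mem f N)
  have e2 := hmax ψ (fun i => h i ▸ hφ i) _ (sub_truncTotal_mem f N)
  rw [map_sub, hp] at e1
  rw [map_sub] at e2
  simpa using sub_mem e1 e2

end Ext

lemma eqn0 : constantCoeff (ArSing.eqn k r) = 0 := by simp [ArSing.eqn]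

lemma eqn1 : coeff (single 1 1) (ArSing.eqn k r) = 0 := by
  classical
  have h1 : single (1 : Fin 2) 1 ≠ single 1 2 := fun h => by simpa using DFunLike.congr_fun h 1
  have h2 : single (1 : Fin 2) 1 ≠ single 0 (r + 1) := fun h => by simpa using DFunLike.congr_fun h 1
  rw [ArSing.eqn, map_sub, coeff_X_pow, coeff_X_pow, if_neg h1, if_neg h2, sub_zero]

lemma eqn2 : coeff (single 1 2) (ArSing.eqn k r) ≠ 0 := by
  classical
  have h2 : single (1 : Fin 2) 2 ≠ single 0 (r + 1) := fun h => by simpa using DFunLike.congr_fun h 1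
  rw [ArSing.eqn, map_sub, coeff_X_pow, coeff_X_pow, if_pos rfl, if_neg h2, sub_zero]
  exact one_ne_zero

lemma span_le_max : Ideal.span {ArSing.eqn k r} ≤ IsLocalRing.maximalIdeal (MvPowerSeries (Fin 2) k) := by
  rw [Ideal.span_singleton_le_iff_mem, maximalIdeal_eq, mem_low_one]
  exact eqn0

lemma span_ne_top : Ideal.span {ArSing.eqn k r} ≠ ⊤ := fun h =>
  (IsLocalRing.maximalIdeal.isMaximal (MvPowerSeries (Fin 2) k)).ne_top (top_le_iff.1 (h ▸ span_le_max (r := r)))

instance : IsLocalRing (ArSing.ring k r) :=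
  have := Ideal.Quotient.nontrivial_iff.2 (span_ne_top (k := k) (r := r))
  IsLocalRing.of_surjective' (Ideal.Quotient.mk _) Ideal.Quotient.mk_surjective

lemma isUnit_mk_iff (f : MvPowerSeries (Fin 2) k) :
    IsUnit (Ideal.Quotient.mk (Ideal.span {ArSing.eqn k r}) f) ↔ constantCoeff f ≠ 0 := by
  refine ⟨fun h => ?_, fun h => (isUnit_iff_constantCoeff.2 (isUnit_iff_ne_zero.2 h)).map _⟩
  obtain ⟨v, hv⟩ := h.exists_right_inv
  obtain ⟨v, rfl⟩ := Ideal.Quotient.mk_surjective v
  rw [← map_mul, ← map_one (Ideal.Quotient.mk _), Ideal.Quotient.eq] at hv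
  have := span_le_max hv
  rw [maximalIdeal_eq, mem_low_one] at this
  intro h0
  simp [h0] at this

lemma xMap_eq (p : PowerSeries k) :
    ArSing.xMap k r p = Ideal.Quotient.mk (Ideal.span {ArSing.eqn k r}) (ι p) := rfl

lemma xMap_X : ArSing.xMap k r PowerSeries.X = ArSing.x k r := by rw [xMap_eq, ι_X]

lemma y_sq : ArSing.y k r * ArSing.y k r = ArSing.x k r ^ (r + 1) := by
  rw [← map_mul, ← map_pow, Ideal.Quotient.eq, ← pow_two]
  exact Ideal.mem_span_singleton_self _

lemma constantCoeff_ι (p : PowerSeries k) : constantCoeff (ι p) = PowerSeries.constantCoeff p := by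
  rw [← coeff_zero_eq_constantCoeff, coeff_ι]; simp

/-- Every element is `p(x) + q(x) y`. -/
theorem exists_nf (a : ArSing.ring k r) :
    ∃ p q, a = ArSing.xMap k r p + ArSing.xMap k r q * ArSing.y k r := by
  obtain ⟨f, rfl⟩ := Ideal.Quotient.mk_surjective a
  obtain ⟨p, q, h, rfl⟩ := exists_div (G := ArSing.eqn k r) eqn0 eqn1 eqn2 f
  refine ⟨p, q, ?_⟩
  rw [xMap_eq, xMap_eq, ← map_mul, ← map_add, Ideal.Quotient.eq, add_sub_cancel_left]
  exact Ideal.mem_span_singleton'.2 ⟨h, rfl⟩

/-- The expression is unique. -/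
theorem nf_zero {p q : PowerSeries k}
    (h : ArSing.xMap k r p + ArSing.xMap k r q * ArSing.y k r = 0) : p = 0 ∧ q = 0 := by
  rw [xMap_eq, xMap_eq, ← map_mul, ← map_add, Ideal.Quotient.eq_zero_iff_mem] at h
  obtain ⟨g, hg⟩ := Ideal.mem_span_singleton'.1 h
  exact div_unique eqn0 eqn1 eqn2 hg.symm

theorem nf_inj {p q p' q' : PowerSeries k}
    (h : ArSing.xMap k r p + ArSing.xMap k r q * ArSing.y k r =
      ArSing.xMap k r p' + ArSing.xMap k r q' * ArSing.y k r) : p = p' ∧ q = q' := by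
  have := nf_zero (r := r) (p := p - p') (q := q - q') (by rw [map_sub, map_sub]; linear_combination h)
  exact ⟨sub_eq_zero.1 this.1, sub_eq_zero.1 this.2⟩

lemma nf_mul (p q p' q' : PowerSeries k) :
    (ArSing.xMap k r p + ArSing.xMap k r q * ArSing.y k r) *
        (ArSing.xMap k r p' + ArSing.xMap k r q' * ArSing.y k r) =
      ArSing.xMap k r (p * p' + q * q' * PowerSeries.X ^ (r + 1)) +
        ArSing.xMap k r (p * q' + q * p') * ArSing.y k r := by
  simp only [map_add, map_mul, map_pow, xMap_X]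
  linear_combination (ArSing.xMap k r q * ArSing.xMap k r q') * y_sq (k := k) (r := r)

lemma isUnit_nf (p q : PowerSeries k) :
    IsUnit (ArSing.xMap k r p + ArSing.xMap k r q * ArSing.y k r) ↔ PowerSeries.constantCoeff p ≠ 0 := by
  rw [xMap_eq, xMap_eq, ← map_mul, ← map_add, isUnit_mk_iff]
  simp [constantCoeff_ι]

lemma mem_max_nf (p q : PowerSeries k) :
    ArSing.xMap k r p + ArSing.xMap k r q * ArSing.y k r ∈ IsLocalRing.maximalIdeal (ArSing.ring k r) ↔
      PowerSeries.constantCoeff p = 0 := by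
  rw [IsLocalRing.mem_maximalIdeal, mem_nonunits_iff, isUnit_nf, not_not]

lemma x_mem : ArSing.x k r ∈ IsLocalRing.maximalIdeal (ArSing.ring k r) := by
  have := (mem_max_nf (k := k) (r := r) PowerSeries.X 0).2 (by simp)
  simpa [xMap_X] using this

lemma y_mem : ArSing.y k r ∈ IsLocalRing.maximalIdeal (ArSing.ring k r) := by
  have := (mem_max_nf (k := k) (r := r) 0 1).2 (by simp)
  simpa using this

lemma maximalIdeal_ring :
    IsLocalRing.maximalIdeal (ArSing.ring k r) = Ideal.span {ArSing.x k r, ArSing.y k r} := by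
  refine le_antisymm (fun a ha => ?_) (Ideal.span_le.2 (by
    rintro _ (rfl | rfl); exacts [x_mem, y_mem]))
  obtain ⟨p, q, rfl⟩ := exists_nf a
  rw [mem_max_nf] at ha
  obtain ⟨p', rfl⟩ := PowerSeries.X_dvd_iff.2 ha
  rw [map_mul, xMap_X, Ideal.mem_span_pair]
  exact ⟨ArSing.xMap k r p', ArSing.xMap k r q, by ring⟩

/-- Algebra maps are determined on `x` and `y`. -/
theorem hom_ext {B : Type v} [CommRing B] [IsLocalRing B] [IsNoetherianRing B] [Algebra k B]
    {φ ψ : ArSing.ring k r →ₐ[k] B} (h1 : φ (ArSing.x k r) ∈ IsLocalRing.maximalIdeal B)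
    (h2 : φ (ArSing.y k r) ∈ IsLocalRing.maximalIdeal B) (hx : φ (ArSing.x k r) = ψ (ArSing.x k r))
    (hy : φ (ArSing.y k r) = ψ (ArSing.y k r)) : φ = ψ := by
  refine Ideal.Quotient.algHom_ext k (mv_hom_ext ?_ ?_)
  · intro i; fin_cases i; exacts [h1, h2]
  · intro i; fin_cases i; exacts [hx, hy]

/-- The effect of a diagonal map on `p(x)`. -/
theorem map_xMap {r' : ℕ} (φ : ArSing.ring k r →ₐ[k] ArSing.ring k r') (u : PowerSeries k →ₐ[k] PowerSeries k)
    (hu : PowerSeries.constantCoeff (u PowerSeries.X) = 0)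
    (h : φ (ArSing.x k r) = ArSing.xMap k r' (u PowerSeries.X)) (p : PowerSeries k) :
    φ (ArSing.xMap k r p) = ArSing.xMap k r' (u p) := by
  refine AlgHom.congr_fun (ps_hom_ext (φ := φ.comp (ArSing.xMap k r)) (ψ := (ArSing.xMap k r').comp u) ?_ ?_) p
  · rw [AlgHom.comp_apply, xMap_X, h]
    have := (mem_max_nf (k := k) (r := r') (u PowerSeries.X) 0).2 hu
    simpa using this
  · simpa [xMap_X] using h

/-- The second variable. -/
noncomputable def yMap (k : Type u) [Field k] (r : ℕ) : PowerSeries k →ₐ[k] ArSing.ring k r :=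
  (Ideal.Quotient.mkₐ k (Ideal.span {ArSing.eqn k r})).comp
    (PowerSeries.substAlgHom (PowerSeries.HasSubst.X (1 : Fin 2)))

lemma yMap_X : yMap k r PowerSeries.X = ArSing.y k r := by
  rw [yMap, AlgHom.comp_apply, PowerSeries.substAlgHom_X]; rfl

lemma rescaleAlgHom_apply (c : k) (p : PowerSeries k) :
    PowerSeries.rescaleAlgHom c p = PowerSeries.rescale c p := by
  rw [← AlgHom.coe_toRingHom, PowerSeries.coe_rescaleAlgHom]

lemma negOne_rescale_X :
    PowerSeries.rescaleAlgHom (-1 : k) PowerSeries.X = -PowerSeries.X := by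
  rw [rescaleAlgHom_apply, PowerSeries.rescale_X]; simp

lemma map_xMap_neg {σ : ArSing.ring k r →ₐ[k] ArSing.ring k r}
    (h : σ (ArSing.x k r) = -ArSing.x k r) (p : PowerSeries k) :
    σ (ArSing.xMap k r p) = ArSing.xMap k r (PowerSeries.rescale (-1 : k) p) := by
  rw [map_xMap σ (PowerSeries.rescaleAlgHom (-1 : k)) (by rw [negOne_rescale_X]; simp)
    (by rw [h, negOne_rescale_X, map_neg, xMap_X]), rescaleAlgHom_apply]

/-- Length of a quotient that is a truncation of `k[[t]]`. -/
theorem length_quot {A : Type v} [CommRing A] (I : Ideal A) (f : PowerSeries k →+* A) (n : ℕ)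
    (hs : Function.Surjective ((Ideal.Quotient.mk I).comp f))
    (hk : ∀ g, f g ∈ I ↔ (PowerSeries.X : PowerSeries k) ^ n ∣ g) :
    Module.length A (A ⧸ I) = n := by
  algebraize [(Ideal.Quotient.mk I).comp f]
  rw [Module.length_eq_of_surjective (S := A) (R := A ⧸ I) Ideal.Quotient.mk_surjective,
    ← Module.length_eq_of_surjective (S := PowerSeries k) (R := A ⧸ I) hs]
  let L := Algebra.linearMap (PowerSeries k) (A ⧸ I)
  have hker : LinearMap.ker L = IsLocalRing.maximalIdeal (PowerSeries k) ^ n := by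
    ext g
    rw [PowerSeries.maximalIdeal_eq_span_X, Ideal.span_singleton_pow, Ideal.mem_span_singleton, ← hk,
      LinearMap.mem_ker]
    exact Ideal.Quotient.eq_zero_iff_mem
  rw [← ((Submodule.quotEquivOfEq _ _ hker.symm).trans (L.quotKerEquivOfSurjective hs)).length_eq]
  exact IsDiscreteValuationRing.length_quotient_pow_maximalIdeal (PowerSeries k) n

/-- The equational criterion in terms of a ring map. -/
theorem flat_rel {A : Type u} {B : Type v} [CommRing A] [CommRing B] {f : A →+* B} (hf : f.Flat)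
    {l : ℕ} (c : Fin l → A) (x : Fin l → B) (h : ∑ i, f (c i) * x i = 0) :
    ∃ (n : ℕ) (a : Fin l → Fin n → A) (z : Fin n → B),
      (∀ i, x i = ∑ j, f (a i j) * z j) ∧ ∀ j, ∑ i, c i * a i j = 0 := by
  let := f.toAlgebra
  have : Module.Flat A B := hf
  exact Module.Flat.isTrivialRelation_of_sum_smul_eq_zero (R := A) (M := B) (f := c) (x := x) h

section EvenOdd

/-- `f(t) ↦ f(t^2)`. -/
noncomputable def E2 : PowerSeries k →ₐ[k] PowerSeries k := PowerSeries.expand 2 two_ne_zero

lemma E2_X : E2 (PowerSeries.X : PowerSeries k) = PowerSeries.X ^ 2 := PowerSeries.expand_X _ _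

lemma coeff_E2_even (p : PowerSeries k) (i : ℕ) :
    PowerSeries.coeff (2 * i) (E2 p) = PowerSeries.coeff i p := PowerSeries.coeff_expand_mul ..

lemma coeff_E2_odd (p : PowerSeries k) (i : ℕ) : PowerSeries.coeff (2 * i + 1) (E2 p) = 0 :=
  PowerSeries.coeff_expand_of_not_dvd _ _ _ (by omega)

/-- Even part and odd part. -/
theorem exists_evenOdd (p : PowerSeries k) : ∃ a b, p = E2 a + PowerSeries.X * E2 b := by
  refine ⟨PowerSeries.mk fun i => PowerSeries.coeff (2 * i) p,
    PowerSeries.mk fun i => PowerSeries.coeff (2 * i + 1) p, PowerSeries.ext fun n => ?_⟩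
  rcases Nat.even_or_odd' n with ⟨i, rfl | rfl⟩
  · rw [map_add, coeff_E2_even]
    rcases i with _ | i
    · simp
    · rw [show 2 * (i + 1) = (2 * i + 1) + 1 by omega, PowerSeries.coeff_succ_X_mul, coeff_E2_odd]
      simp [show 2 * (i + 1) = 2 * i + 1 + 1 by omega]
  · rw [map_add, coeff_E2_odd, PowerSeries.coeff_succ_X_mul, coeff_E2_even]
    simp

theorem evenOdd_zero {a b : PowerSeries k} (h : E2 a + PowerSeries.X * E2 b = 0) : a = 0 ∧ b = 0 := by
  constructor <;> ext i
  · have := congrArg (PowerSeries.coeff (2 * i)) h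
    rw [map_add, coeff_E2_even, map_zero] at this
    rcases i with _ | i
    · simpa using this
    · rw [show 2 * (i + 1) = (2 * i + 1) + 1 by omega, PowerSeries.coeff_succ_X_mul, coeff_E2_odd, add_zero] at this
      simpa using this
  · have := congrArg (PowerSeries.coeff (2 * i + 1)) h
    rw [map_add, coeff_E2_odd, PowerSeries.coeff_succ_X_mul, coeff_E2_even, map_zero, zero_add] at this
    simpa using this

lemma rescale_neg_E2 (p : PowerSeries k) : PowerSeries.rescale (-1 : k) (E2 p) = E2 p := by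
  ext n
  rw [PowerSeries.coeff_rescale]
  rcases Nat.even_or_odd' n with ⟨i, rfl | rfl⟩
  · rw [pow_mul, neg_one_sq, one_pow, one_mul]
  · rw [coeff_E2_odd, mul_zero]

lemma rescale_neg_evenOdd (a b : PowerSeries k) :
    PowerSeries.rescale (-1 : k) (E2 a + PowerSeries.X * E2 b) = E2 a - PowerSeries.X * E2 b := by
  rw [map_add, map_mul, rescale_neg_E2, rescale_neg_E2, PowerSeries.rescale_X]
  simp [sub_eq_add_neg]

end EvenOdd

end ArSingLib
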