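import Groth.Agent.ArSingLib.Coord

/-! Plane curve germs up to formal change of coordinates. -/

universe u

namespace ArSingLib

open MvPowerSeries Finsupp MorseLib

variable {k : Type u} [Field k]

/-- Two series differ by a change of coordinates and a unit. -/
def Rel (F G : MvPowerSeries (Fin 2) k) : Prop :=
  ∃ e : MvPowerSeries (Fin 2) k ≃ₐ[k] MvPowerSeries (Fin 2) k, Ideal.span {e F} = Ideal.span {G}

lemma Rel.of_eq {F G : MvPowerSeries (Fin 2) k} (h : Ideal.span {F} = Ideal.span {G}) : Rel F G :=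
  ⟨AlgEquiv.refl, h⟩

lemma Rel.trans {F G H : MvPowerSeries (Fin 2) k} (h : Rel F G) (h' : Rel G H) : Rel F H := by
  obtain ⟨e, he⟩ := h
  obtain ⟨e', he'⟩ := h'
  refine ⟨e.trans e', ?_⟩
  have := congrArg (Ideal.map e') he
  rw [Ideal.map_span, Ideal.map_span, Set.image_singleton, Set.image_singleton, he'] at this
  exact this

lemma Rel.symm {F G : MvPowerSeries (Fin 2) k} (h : Rel F G) : Rel G F := by
  obtain ⟨e, he⟩ := h
  refine ⟨e.symm, ?_⟩
  have := congrArg (Ideal.map e.symm) he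
  rw [Ideal.map_span, Ideal.map_span, Set.image_singleton, Set.image_singleton, AlgEquiv.symm_apply_apply] at this
  exact this.symm

/-- Equivalent series have isomorphic quotients. -/
theorem Rel.nonempty_equiv {F G : MvPowerSeries (Fin 2) k} (h : Rel F G) :
    Nonempty ((MvPowerSeries (Fin 2) k ⧸ Ideal.span {F}) ≃ₐ[k] (MvPowerSeries (Fin 2) k ⧸ Ideal.span {G})) := by
  obtain ⟨e, he⟩ := h
  exact ⟨Ideal.quotientEquivAlg _ _ e (by rw [Ideal.map_span, Set.image_singleton]; exact he.symm)⟩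

variable (U : Fin 2 → MvPowerSeries (Fin 2) k) (hU : ∀ i, U i ∈ Low (n := 2) (⊥ : Ideal k) 1)

lemma constantCoeff_Ev (f : MvPowerSeries (Fin 2) k) : constantCoeff (Ev U hU f) = constantCoeff f := by
  have h : f - algebraMap k _ (constantCoeff f) ∈ Low (n := 2) (⊥ : Ideal k) 1 := by
    rw [mem_low_one, map_sub, ← c_eq_algebraMap, constantCoeff_C, sub_self]
  have h' := mem_low_one.1 (Ev_mem U hU h)
  rw [map_sub, AlgHom.commutes, map_sub, ← c_eq_algebraMap, constantCoeff_C, sub_eq_zero] at h'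
  exact h'

lemma coeff_single_Ev {f : MvPowerSeries (Fin 2) k} (hf : constantCoeff f = 0) (j : Fin 2) :
    coeff (single j 1) (Ev U hU f) = ∑ l, coeff (single l 1) f * jac U l j := by
  have h := sub_lin_mem (U := fun _ : Fin 2 => f) (fun _ => mem_low_one.2 hf) 0
  have h' := mem_Low_bot.1 (Ev_mem U hU h) (single j 1) (by simp)
  rw [map_sub, map_sub, sub_eq_zero] at h'
  rw [h']
  simp only [lin, map_sum, map_mul, c_eq_algebraMap, AlgHom.commutes, Ev_X]
  refine Finset.sum_congr rfl fun l _ => ?_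
  rw [← c_eq_algebraMap, coeff_C_mul]
  rfl

/-- A substitution with invertible linear part, as an automorphism. -/
theorem exists_equiv (hdet : (jac U).det ≠ 0) :
    ∃ e : MvPowerSeries (Fin 2) k ≃ₐ[k] MvPowerSeries (Fin 2) k, ∀ f, e f = Ev U hU f :=
  ⟨AlgEquiv.ofBijective _ (Ev_bijective U hU (isUnit_iff_ne_zero.2 hdet)), fun _ => rfl⟩

/-- Changes of coordinates come from substitutions. -/
theorem Rel.low {F G : MvPowerSeries (Fin 2) k} (h : Rel F G) {d : ℕ}
    (hF : F ∈ Low (n := 2) (⊥ : Ideal k) d) : G ∈ Low (n := 2) (⊥ : Ideal k) d := by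
  obtain ⟨e, he⟩ := h
  have hG : G ∈ Ideal.span {e F} := he ▸ Ideal.mem_span_singleton_self G
  refine Ideal.span_le.2 (Set.singleton_subset_iff.2 ?_) hG
  rw [low_eq_pow] at hF ⊢
  have := Ideal.mem_map_of_mem e hF
  rw [Ideal.map_pow] at this
  refine Ideal.pow_right_mono ?_ d this
  rw [Ideal.map_le_iff_le_comap]
  intro z hz
  rw [Ideal.mem_comap, IsLocalRing.mem_maximalIdeal, mem_nonunits_iff]
  rw [IsLocalRing.mem_maximalIdeal, mem_nonunits_iff] at hz
  exact fun hu => hz (by simpa using hu.map e.symm)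

/-- An isomorphism of germs is a change of coordinates, if one of them is singular. -/
theorem rel_of_equiv {F G : MvPowerSeries (Fin 2) k} (hG : G ∈ Low (n := 2) (⊥ : Ideal k) 2)
    (e : (MvPowerSeries (Fin 2) k ⧸ Ideal.span {F}) ≃ₐ[k] (MvPowerSeries (Fin 2) k ⧸ Ideal.span {G})) :
    Rel F G := by
  classical
  have hG1 : Ideal.span {G} ≤ Low (n := 2) (⊥ : Ideal k) 2 := (Ideal.span_singleton_le_iff_mem _).2 hG
  have htop : Ideal.span {G} ≠ ⊤ := fun h => by
    have := Low_anti (show 1 ≤ 2 by omega) (hG1 (h ▸ Submodule.mem_top : (1 : MvPowerSeries (Fin 2) k) ∈ _))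
    rw [mem_low_one] at this
    simp at this
  obtain ⟨U, hU, hφ⟩ := exists_lift
    ((e : _ →ₐ[k] MvPowerSeries (Fin 2) k ⧸ Ideal.span {G}).comp (Ideal.Quotient.mkₐ k (Ideal.span {F}))) htop
  have hφ' : ∀ f, e (Ideal.Quotient.mk _ f) = Ideal.Quotient.mk _ (Ev U hU f) := fun f => AlgHom.congr_fun hφ f
  have hsurj : ∀ i, ∃ f, Ev U hU f - X i ∈ Ideal.span {G} := fun i => by
    obtain ⟨f, hf⟩ := Ideal.Quotient.mk_surjective (e.symm (Ideal.Quotient.mk _ (X i)))
    refine ⟨f, ?_⟩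
    rw [← Ideal.Quotient.eq, ← hφ', hf, AlgEquiv.apply_symm_apply]
  choose f hf using hsurj
  have hf0 : ∀ i, constantCoeff (f i) = 0 := fun i => by
    have := mem_low_one.1 (Low_anti (by omega) (hG1 (hf i)))
    rwa [map_sub, constantCoeff_Ev, constantCoeff_X, sub_zero] at this
  have hB : Matrix.of (fun i l => coeff (single l 1) (f i)) * jac U = 1 := by
    ext i j
    have := mem_Low_bot.1 (hG1 (hf i)) (single j 1) (by simp)
    rw [map_sub, sub_eq_zero, coeff_single_Ev _ _ (hf0 i), coeff_X] at this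
    rw [Matrix.mul_apply, Matrix.one_apply]
    refine this.trans ?_
    simp [Finsupp.single_left_inj, eq_comm]
  have hdet : (jac U).det ≠ 0 := fun h => by
    have := congrArg Matrix.det hB
    rw [Matrix.det_mul, h, mul_zero, Matrix.det_one] at this
    exact zero_ne_one this
  obtain ⟨Φ, hΦ⟩ := exists_equiv U hU hdet
  refine ⟨Φ, le_antisymm ((Ideal.span_singleton_le_iff_mem _).2 ?_) ((Ideal.span_singleton_le_iff_mem _).2 ?_)⟩
  · rw [hΦ, ← Ideal.Quotient.eq_zero_iff_mem, ← hφ', Ideal.Quotient.eq_zero_iff_mem.2 (Ideal.mem_span_singleton_self F),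
      map_zero]
  · obtain ⟨g, hg⟩ := Φ.surjective G
    have h0 : e (Ideal.Quotient.mk _ g) = 0 := by
      rw [hφ', ← hΦ, hg, Ideal.Quotient.eq_zero_iff_mem]; exact Ideal.mem_span_singleton_self G
    rw [← map_zero e] at h0
    obtain ⟨c, hc⟩ := Ideal.mem_span_singleton'.1 (Ideal.Quotient.eq_zero_iff_mem.1 (e.injective h0))
    exact Ideal.mem_span_singleton'.2 ⟨Φ c, by rw [← map_mul, hc, hg]⟩

lemma Ev_ι (h : U 0 = X 0) (p : PowerSeries k) : Ev U hU (ι p) = ι p := by
  refine AlgHom.congr_fun (ps_hom_ext (φ := (Ev U hU).comp ι) (ψ := ι) ?_ ?_) p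
  · rw [AlgHom.comp_apply, ι_X, Ev_X, h, maximalIdeal_eq]
    exact X_mem_Low 0
  · rw [AlgHom.comp_apply, ι_X, Ev_X, h]

end ArSingLib
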