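import Mathlib

/-! Finite local algebras with principal maximal ideal. -/

universe u v

namespace ArSingLib

open Polynomial

/-- Over an algebraically closed field, a finite local algebra with principal maximal ideal is a
truncated polynomial algebra. -/
theorem nonempty_algEquiv_truncPoly (k : Type u) (B : Type v) [Field k] [IsAlgClosed k] [CommRing B]
    [IsLocalRing B] [Algebra k B] [Module.Finite k B] (hp : (IsLocalRing.maximalIdeal B).IsPrincipal) :
    Nonempty (B ≃ₐ[k] (Polynomial k ⧸ Ideal.span {(X : Polynomial k) ^ Module.finrank k B})) := by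
  have : IsArtinianRing B := IsArtinianRing.of_finite k B
  obtain ⟨t, ht⟩ := hp.principal
  rw [Ideal.submodule_span_eq] at ht
  have : IsNoetherianRing B := inferInstance
  obtain ⟨N, hN⟩ := (isArtinianRing_iff_isNilpotent_maximalIdeal B).1 inferInstance
  have htN : t ^ N = 0 := by
    have : t ^ N ∈ IsLocalRing.maximalIdeal B ^ N :=
      Ideal.pow_mem_pow (ht ▸ Ideal.mem_span_singleton_self t) N
    rwa [hN, Ideal.zero_eq_bot, Ideal.mem_bot] at this
  have hres : Function.Bijective (algebraMap k (IsLocalRing.ResidueField B)) :=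
    IsAlgClosed.algebraMap_bijective_of_isIntegral
  let f : Polynomial k →ₐ[k] B := aeval t
  have hstep : ∀ n, ∀ b : B, ∃ (p : Polynomial k) (c : B), b = f p + t ^ n * c := by
    intro n
    induction n with
    | zero => exact fun b => ⟨0, b, by simp⟩
    | succ n ih =>
      intro b
      obtain ⟨p, c, rfl⟩ := ih b
      obtain ⟨a, ha⟩ := hres.2 (IsLocalRing.residue B c)
      have hmem : c - algebraMap k B a ∈ IsLocalRing.maximalIdeal B := by
        rw [← IsLocalRing.residue_eq_zero_iff, map_sub, ← ha,
          IsScalarTower.algebraMap_apply k B (IsLocalRing.ResidueField B)]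
        exact sub_self _
      rw [ht] at hmem
      obtain ⟨c', hc'⟩ := Ideal.mem_span_singleton'.1 hmem
      refine ⟨p + C a * X ^ n, c', ?_⟩
      rw [show c = algebraMap k B a + c' * t by rw [hc']; ring]
      simp [f]
      ring
  have hf : Function.Surjective f := fun b => by
    obtain ⟨p, c, rfl⟩ := hstep N b
    exact ⟨p, by simp [htN]⟩
  obtain ⟨q, hq⟩ : ∃ q, RingHom.ker f = Ideal.span {q} :=
    ⟨_, (Ideal.span_singleton_generator _).symm⟩
  have hX : q ∣ X ^ N := by
    rw [← Ideal.mem_span_singleton, ← hq, RingHom.mem_ker]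
    simp [f, htN]
  obtain ⟨d, -, hd⟩ := (dvd_prime_pow Polynomial.prime_X N).1 hX
  have hspan : RingHom.ker f = Ideal.span {(X : Polynomial k) ^ d} := by
    rw [hq, Ideal.span_singleton_eq_span_singleton]
    exact hd
  let e : B ≃ₐ[k] (Polynomial k ⧸ Ideal.span {(X : Polynomial k) ^ d}) :=
    (Ideal.quotientKerAlgEquivOfSurjective hf).symm.trans (Ideal.quotientEquivAlgOfEq k hspan)
  have hdim : Module.finrank k B = d := by
    rw [e.toLinearEquiv.finrank_eq]
    have := finrank_quotient_span_eq_natDegree (f := (X : Polynomial k) ^ d)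
    rwa [natDegree_X_pow] at this
  exact ⟨hdim ▸ e⟩

end ArSingLib
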